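import Mathlib

/-! Interface between part A (tables give relations) and part B (Bruhat theory) of the Chevalley
project.  Roots are vectors in weight coordinates: `r i = ⟨r, α_i^∨⟩`. -/

set_option autoImplicit false

namespace Cfsg.Agent.ChevB

/-- Root system data in weight coordinates with root lattice = weight lattice. -/
structure RS (l : ℕ) where
  /-- the roots, `r i = ⟨r, α_i^∨⟩` -/
  Φ : Finset (Fin l → ℤ)
  /-- the simple roots -/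
  a : Fin l → (Fin l → ℤ)
  /-- root coordinates (inverse Cartan matrix): `μ = ∑ i, c μ i • a i` -/
  c : (Fin l → ℤ) →+ (Fin l → ℤ)
  /-- half square lengths of the simple roots -/
  d : Fin l → ℤ
  a_mem : ∀ i, a i ∈ Φ
  neg_mem : ∀ r ∈ Φ, -r ∈ Φ
  zero_not_mem : (0 : Fin l → ℤ) ∉ Φ
  a_self : ∀ i, a i i = 2
  refl_mem : ∀ i, ∀ r ∈ Φ, r - r i • a i ∈ Φ
  c_a : ∀ i, c (a i) = Pi.single i 1
  a_c : ∀ μ, ∑ i, c μ i • a i = μ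
  pos_or_neg : ∀ r ∈ Φ, 0 ≤ c r ∨ c r ≤ 0
  reduced : ∀ i, ∀ r ∈ Φ, 0 ≤ c r → r ≠ a i → ∃ j, j ≠ i ∧ 0 < c r j
  exists_pos : ∀ r ∈ Φ, 0 ≤ c r → ∃ i, 0 < r i
  d_pos : ∀ i, 0 < d i
  symm : ∀ i j, d j * a i j = d i * a j i
  parity : ∀ i j, i ≠ j → Even (a i j) → Even (a j i) → a i j = 0

/-- value of the character `χ` (given on the fundamental weights) at the weight `μ` -/
def ev {l : ℕ} {F : Type*} [Field F] (χ : Fin l → Fˣ) (μ : Fin l → ℤ) : Fˣ := ∏ i, χ i ^ μ i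

namespace RS

variable {l : ℕ} (R : RS l)

/-- simple reflection as a function -/
def sf (i : Fin l) (μ : Fin l → ℤ) : Fin l → ℤ := μ - μ i • R.a i

end RS

/-- The Chevalley relations inside an ambient group `Γ`; `x r` matters only for roots `r`. -/
structure Rel {l : ℕ} (R : RS l) (F : Type*) [Field F] (Γ : Type*) [Group Γ] where
  x : (Fin l → ℤ) → F → Γ
  h : (Fin l → Fˣ) →* Γ
  n : Fin l → Γ
  n_def : ∀ i, n i = x (R.a i) 1 * x (-R.a i) (-1) * x (R.a i) 1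
  x_add : ∀ r ∈ R.Φ, ∀ t u, x r (t + u) = x r t * x r u
  x_inj : ∀ i t, x (R.a i) t = 1 → t = 0
  comm : ∀ i, ∀ r ∈ R.Φ, 0 ≤ R.c r → r ≠ R.a i → ∀ t u,
    x (R.a i) t * x r u * (x (R.a i) t)⁻¹ * (x r u)⁻¹ ∈
      Subgroup.closure {g | ∃ k ∈ R.Φ, ∃ p q : ℕ, 0 < p ∧ 0 < q ∧
        k = (p : ℤ) • R.a i + (q : ℤ) • r ∧ ∃ v, g = x k v}
  h_conj : ∀ χ, ∀ r ∈ R.Φ, ∀ t, h χ * x r t * (h χ)⁻¹ = x r ((ev χ r : Fˣ) * t)
  n_conj : ∀ i, ∀ r ∈ R.Φ, ∃ η : F, (η = 1 ∨ η = -1) ∧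
    ∀ t, n i * x r t * (n i)⁻¹ = x (R.sf i r) (η * t)
  n_self : ∀ i t, n i * x (R.a i) t * (n i)⁻¹ = x (-R.a i) (-t)
  n_h : ∀ i χ, n i * h χ * (n i)⁻¹ = h (fun j => ev χ (R.sf i (Pi.single j 1)))
  nt : ∀ i (t : Fˣ), x (R.a i) t * x (-R.a i) (-(t⁻¹ : Fˣ)) * x (R.a i) t
    = h (Pi.mulSingle i t) * n i
  ker : ∀ L : List (Fin l), (∀ μ, L.foldr R.sf μ = μ) → (L.map n).prod ∈ h.range
  tri : ∀ u ∈ Subgroup.closure {g | ∃ r ∈ R.Φ, 0 ≤ R.c r ∧ ∃ t, g = x r t},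
    ∀ v ∈ Subgroup.closure {g | ∃ r ∈ R.Φ, R.c r ≤ 0 ∧ ∃ t, g = x r t},
    ∀ χ, u * h χ = v → v = 1

namespace Rel

variable {l : ℕ} {R : RS l} {F : Type*} [Field F] {Γ : Type*} [Group Γ] (C : Rel R F Γ)

/-- the Chevalley group -/
def grp : Subgroup Γ := Subgroup.closure {g | ∃ r ∈ R.Φ, ∃ t, g = C.x r t}

end Rel

end Cfsg.Agent.ChevB
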