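import Cfsg.Agent.Lib.ChevB.W2

/-! The monomial group `N`, its map to `W`, and the unipotent subgroups. -/

set_option autoImplicit false

namespace Cfsg.Agent.ChevB

namespace Rel

variable {l : ℕ} {R : RS l} {F : Type*} [Field F] {Γ : Type*} [Group Γ] (C : Rel R F Γ)

theorem x_zero {r : X l} (hr : r ∈ R.Φ) : C.x r 0 = 1 := by
  have := C.x_add r hr 0 0
  rw [add_zero] at this
  exact left_eq_mul.1 this

theorem x_neg {r : X l} (hr : r ∈ R.Φ) (t : F) : C.x r (-t) = (C.x r t)⁻¹ := by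
  rw [eq_inv_iff_mul_eq_one, ← C.x_add r hr, neg_add_cancel, C.x_zero hr]

theorem n_act (i : Fin l) (χ : Fin l → Fˣ) :
    C.n i * C.h χ * (C.n i)⁻¹ = C.h (act (R.s i) χ) := C.n_h i χ

theorem n_inv (i : Fin l) : (C.n i)⁻¹ = C.h (Pi.mulSingle i (-1)) * C.n i := by
  rw [← C.nt i (-1), C.n_def]
  simp only [mul_inv_rev, ← C.x_neg (R.a_mem i), ← C.x_neg (R.neg_mem _ (R.a_mem i))]
  simp [mul_assoc]

theorem n_sq (i : Fin l) : C.n i * C.n i = C.h (Pi.mulSingle i (-1)) := by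
  have h1 : C.h (Pi.mulSingle i (-1)) * C.h (Pi.mulSingle i (-1)) = 1 := by
    rw [← map_mul, ← Pi.mulSingle_mul]; simp
  have h2 := C.n_inv i
  calc C.n i * C.n i = C.h (Pi.mulSingle i (-1)) *
        (C.h (Pi.mulSingle i (-1)) * C.n i * C.n i) := by
          rw [← mul_assoc, ← mul_assoc, h1, one_mul]
    _ = _ := by rw [← h2]; simp

theorem h_inj : Function.Injective C.h := by
  rw [injective_iff_map_eq_one]
  intro χ h
  refine R.ev_ext_a fun i => ?_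
  have := C.h_conj χ _ (R.a_mem i) 1
  rw [h, one_mul, inv_one, mul_one, mul_one] at this
  have h2 := C.x_inj i (1 - ev χ (R.a i)) (by
    rw [sub_eq_add_neg, C.x_add _ (R.a_mem i), C.x_neg (R.a_mem i), ← this, mul_inv_cancel])
  rw [ev_one]
  exact Units.ext (by rw [Units.val_one]; exact (sub_eq_zero.1 h2).symm)

/-- product of a word -/
def nw (L : List (Fin l)) : Γ := (L.map C.n).prod

theorem nw_cons (i : Fin l) (L : List (Fin l)) : C.nw (i :: L) = C.n i * C.nw L := by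
  simp [nw]

/-- graph of `N → W` -/
def NW : Subgroup (Γ × A l) :=
  Subgroup.closure (Set.range (fun χ => (C.h χ, (1 : A l))) ∪
    Set.range (fun i => (C.n i, R.s i)))

/-- `m ∈ N` represents `w` -/
def Rep (m : Γ) (w : A l) : Prop := (m, w) ∈ C.NW

theorem rep_h (χ : Fin l → Fˣ) : C.Rep (C.h χ) 1 := Subgroup.subset_closure (Or.inl ⟨χ, rfl⟩)

theorem rep_n (i : Fin l) : C.Rep (C.n i) (R.s i) := Subgroup.subset_closure (Or.inr ⟨i, rfl⟩)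

theorem rep_one : C.Rep 1 1 := one_mem C.NW

variable {C}

theorem Rep.mul {m m' : Γ} {w w' : A l} (h : C.Rep m w) (h' : C.Rep m' w') :
    C.Rep (m * m') (w * w') := mul_mem h h'

theorem Rep.inv {m : Γ} {w : A l} (h : C.Rep m w) : C.Rep m⁻¹ w⁻¹ := inv_mem h

theorem rep_n_inv (i : Fin l) : C.Rep (C.n i)⁻¹ (R.s i) := by
  have := (C.rep_n i).inv
  rwa [R.s_inv] at this

theorem rep_nw (L : List (Fin l)) : C.Rep (C.nw L) (R.sw L) := by
  induction L with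
  | nil => exact C.rep_one
  | cons i L ih => rw [nw_cons, RS.sw_cons]; exact (C.rep_n i).mul ih

theorem Rep.normal {m : Γ} {w : A l} (h : C.Rep m w) :
    ∃ χ L, m = C.h χ * C.nw L ∧ w = R.sw L := by
  have : ∀ p ∈ C.NW, ∃ χ L, p.1 = C.h χ * C.nw L ∧ p.2 = R.sw L := by
    intro p hp
    have hn : ∀ i χ L, C.n i * (C.h χ * C.nw L) = C.h (act (R.s i) χ) * C.nw (i :: L) := by
      intro i χ L
      rw [← C.n_act, nw_cons]; group
    induction hp using Subgroup.closure_induction_left with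
    | one => exact ⟨1, [], by simp [nw], rfl⟩
    | mul_left x hx y _ ih =>
      obtain ⟨χ, L, h1, h2⟩ := ih
      rcases hx with ⟨ψ, rfl⟩ | ⟨i, rfl⟩
      · exact ⟨ψ * χ, L, by simp [h1, mul_assoc], by simp [h2]⟩
      · exact ⟨_, i :: L, by rw [Prod.fst_mul, h1]; exact hn i χ L, by simp [h2]⟩
    | inv_mul_cancel x hx y _ ih =>
      obtain ⟨χ, L, h1, h2⟩ := ih
      rcases hx with ⟨ψ, rfl⟩ | ⟨i, rfl⟩
      · exact ⟨ψ⁻¹ * χ, L, by simp [h1, mul_assoc], by simp [h2]⟩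
      · refine ⟨Pi.mulSingle i (-1) * act (R.s i) χ, i :: L, ?_, by simp [h2, R.s_inv]⟩
        rw [Prod.fst_mul, h1, Prod.fst_inv, n_inv, mul_assoc, hn, map_mul, mul_assoc]
  exact this _ h

theorem Rep.mem_W {m : Γ} {w : A l} (h : C.Rep m w) : w ∈ R.W := by
  obtain ⟨_, L, -, rfl⟩ := h.normal
  exact R.sw_mem L

theorem Rep.eq_h {m : Γ} (h : C.Rep m 1) : ∃ χ, m = C.h χ := by
  obtain ⟨χ, L, rfl, h2⟩ := h.normal
  obtain ⟨ψ, hψ⟩ := C.ker L fun μ => by rw [← R.sw_apply, ← h2]; rfl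
  exact ⟨χ * ψ, by rw [map_mul, hψ]; rfl⟩

theorem Rep.unique {m m' : Γ} {w : A l} (h : C.Rep m w) (h' : C.Rep m' w) :
    ∃ χ, m' = C.h χ * m := by
  have := h'.mul h.inv
  rw [mul_inv_cancel] at this
  obtain ⟨χ, e⟩ := this.eq_h
  exact ⟨χ, by rw [← e]; simp⟩

theorem exists_rep (C : Rel R F Γ) {w : A l} (hw : w ∈ R.W) : ∃ m, C.Rep m w := by
  obtain ⟨L, rfl⟩ := R.exists_sw hw
  exact ⟨_, rep_nw L⟩

theorem Rep.h_conj {m : Γ} {w : A l} (h : C.Rep m w) (χ : Fin l → Fˣ) :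
    m * C.h χ * m⁻¹ = C.h (act w⁻¹ χ) := by
  obtain ⟨ψ, L, rfl, rfl⟩ := h.normal
  have : C.nw L * C.h χ * (C.nw L)⁻¹ = C.h (act (R.sw L)⁻¹ χ) := by
    clear h
    induction L with
    | nil => simp [nw, act_one]
    | cons i L ih =>
      rw [nw_cons, RS.sw_cons, mul_inv_rev, mul_inv_rev, act_mul, R.s_inv, ← C.n_act, ← ih]
      group
  calc _ = C.h ψ * (C.nw L * C.h χ * (C.nw L)⁻¹) * (C.h ψ)⁻¹ := by group
    _ = _ := by rw [this, ← map_mul, ← map_inv, ← map_mul, mul_inv_cancel_comm]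

theorem Rep.h_conj' {m : Γ} {w : A l} (h : C.Rep m w) (χ : Fin l → Fˣ) :
    m⁻¹ * C.h χ * m = C.h (act w χ) := by
  have := h.inv.h_conj χ
  rwa [inv_inv, inv_inv] at this

theorem Rep.x_conj {m : Γ} {w : A l} (h : C.Rep m w) {r : X l} (hr : r ∈ R.Φ) :
    ∃ c : Fˣ, ∀ t, m * C.x r t * m⁻¹ = C.x (w r) (c * t) := by
  obtain ⟨ψ, L, rfl, rfl⟩ := h.normal
  have : ∃ c : Fˣ, ∀ t, C.nw L * C.x r t * (C.nw L)⁻¹ = C.x (R.sw L r) (c * t) := by
    clear h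
    induction L with
    | nil => exact ⟨1, fun t => by simp [nw, RS.one_apply]⟩
    | cons i L ih =>
      obtain ⟨c, hc⟩ := ih
      obtain ⟨η, h1, h2⟩ := C.n_conj i _ (R.W_mem_Φ (R.sw_mem L) hr)
      have hη : η ≠ 0 := by rcases h1 with rfl | rfl <;> simp
      refine ⟨Units.mk0 η hη * c, fun t => ?_⟩
      rw [nw_cons, RS.sw_cons, LinearEquiv.mul_apply, R.s_eq_sf, Units.val_mul, Units.val_mk0,
        mul_assoc η, ← h2, ← hc]
      group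
  obtain ⟨c, hc⟩ := this
  refine ⟨ev ψ (R.sw L r) * c, fun t => ?_⟩
  rw [Units.val_mul, mul_assoc _ (c : F), ← C.h_conj _ _ (R.W_mem_Φ (R.sw_mem L) hr), ← hc]
  group

variable (C)

/-- subgroup generated by the root subgroups of `S` -/
def U (S : Finset (X l)) : Subgroup Γ := Subgroup.closure {g | ∃ r ∈ S, ∃ t, g = C.x r t}

theorem x_mem_U {S : Finset (X l)} {r : X l} (hr : r ∈ S) (t : F) : C.x r t ∈ C.U S :=
  Subgroup.subset_closure ⟨r, hr, t, rfl⟩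

theorem U_mono {S S' : Finset (X l)} (h : S ⊆ S') : C.U S ≤ C.U S' :=
  Subgroup.closure_mono fun _ ⟨r, hr, t, e⟩ => ⟨r, h hr, t, e⟩

theorem U_eq_grp : C.U R.Φ = C.grp := rfl

theorem conj_mem_of_gen {S : Finset (X l)} {K : Subgroup Γ} {m : Γ}
    (h : ∀ r ∈ S, ∀ t, m * C.x r t * m⁻¹ ∈ K) {u : Γ} (hu : u ∈ C.U S) : m * u * m⁻¹ ∈ K := by
  have : C.U S ≤ K.comap (MulAut.conj m).toMonoidHom := by
    rw [U, Subgroup.closure_le]
    rintro _ ⟨r, hr, t, rfl⟩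
    exact h r hr t
  exact this hu

variable {C}

theorem Rep.conj_U {m : Γ} {w : A l} (h : C.Rep m w) {S S' : Finset (X l)}
    (hS : ∀ r ∈ S, r ∈ R.Φ ∧ w r ∈ S') {u : Γ} (hu : u ∈ C.U S) : m * u * m⁻¹ ∈ C.U S' := by
  refine C.conj_mem_of_gen (fun r hr t => ?_) hu
  obtain ⟨c, hc⟩ := h.x_conj (hS r hr).1
  rw [hc]
  exact C.x_mem_U (hS r hr).2 _

variable (C)

theorem h_conj_U (χ : Fin l → Fˣ) {S : Finset (X l)} (hS : ∀ r ∈ S, r ∈ R.Φ) {u : Γ}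
    (hu : u ∈ C.U S) : C.h χ * u * (C.h χ)⁻¹ ∈ C.U S :=
  (C.rep_h χ).conj_U (fun r hr => ⟨hS r hr, hr⟩) hu

/-- negative roots -/
def _root_.Cfsg.Agent.ChevB.RS.Q (R : RS l) : Finset (X l) := R.Φ.filter fun r => ¬ R.pos r

theorem _root_.Cfsg.Agent.ChevB.RS.mem_Q {r : X l} : r ∈ R.Q ↔ r ∈ R.Φ ∧ ¬ R.pos r :=
  Finset.mem_filter

theorem tri' {u v : Γ} (hu : u ∈ C.U R.P) (hv : v ∈ C.U R.Q) {χ : Fin l → Fˣ}
    (e : u * C.h χ = v) : v = 1 := by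
  refine C.tri u (Subgroup.closure_mono ?_ hu) v (Subgroup.closure_mono ?_ hv) χ e
  · rintro _ ⟨r, hr, t, rfl⟩
    exact ⟨r, (R.mem_P.1 hr).1, (R.mem_P.1 hr).2, t, rfl⟩
  · rintro _ ⟨r, hr, t, rfl⟩
    exact ⟨r, (RS.mem_Q.1 hr).1, (R.not_pos_iff (RS.mem_Q.1 hr).1).1 (RS.mem_Q.1 hr).2, t, rfl⟩

theorem x_eq_one {r : X l} (hr : r ∈ R.Φ) {t : F} (h : C.x r t = 1) : t = 0 := by
  obtain ⟨w, hw, i, rfl⟩ := R.exists_simple hr
  obtain ⟨m, hm⟩ := C.exists_rep hw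
  obtain ⟨c, hc⟩ := hm.inv.x_conj hr
  have := hc t
  rw [h, RS.inv_apply_apply, mul_one, mul_inv_cancel] at this
  simpa using C.x_inj i _ this.symm

theorem U_inter_H {χ : Fin l → Fˣ} (h : C.h χ ∈ C.U R.P) : χ = 1 := by
  obtain ⟨w, hw, e⟩ := R.exists_longest
  obtain ⟨m, hm⟩ := C.exists_rep hw
  have h1 := hm.conj_U (S' := R.Q) (fun r hr => ⟨(R.mem_P.1 hr).1, RS.mem_Q.2
    ⟨R.W_mem_Φ hw (R.mem_P.1 hr).1, (R.mem_Inv.1 (e ▸ hr)).2.2⟩⟩) h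
  have h2 := C.tri' (one_mem _) h1 (χ := act w⁻¹ χ) (by rw [hm.h_conj, one_mul])
  apply C.h_inj
  rw [map_one]
  simpa [mul_inv_eq_one] using h2

/-- `X_{a i}` normalises `U (Inv w \ a i)` -/
theorem x_norm {w : A l} (hw : w ∈ R.W) {i : Fin l} (hi : ¬ R.pos (w (R.a i))) (t : F) {u : Γ}
    (hu : u ∈ C.U ((R.Inv w).erase (R.a i))) :
    C.x (R.a i) t * u * (C.x (R.a i) t)⁻¹ ∈ C.U ((R.Inv w).erase (R.a i)) := by
  refine C.conj_mem_of_gen (fun r hr s => ?_) hu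
  obtain ⟨h1, h2⟩ := Finset.mem_erase.1 hr
  obtain ⟨h2, h3, h4⟩ := R.mem_Inv.1 h2
  have := C.comm i r h2 h3 h1 t s
  have h5 : C.x (R.a i) t * C.x r s * (C.x (R.a i) t)⁻¹ * (C.x r s)⁻¹ ∈
      C.U ((R.Inv w).erase (R.a i)) := by
    refine Subgroup.closure_mono ?_ this
    rintro _ ⟨k, hk, p, q, hp, hq, e, v, rfl⟩
    refine ⟨k, ?_, v, rfl⟩
    obtain ⟨j, hj, h6⟩ := R.reduced i r h2 h3 h1
    have h7 : 0 < R.c k j := by
      rw [e, map_add, map_zsmul, map_zsmul, R.c_a]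
      simp only [Pi.add_apply, Pi.smul_apply, smul_eq_mul, Pi.single_eq_of_ne hj]
      have : (0 : ℤ) < q := by exact_mod_cast hq
      nlinarith
    refine Finset.mem_erase.2 ⟨?_, R.mem_Inv.2 ⟨hk, R.pos_of_coord hk h7, ?_⟩⟩
    · rintro rfl
      rw [R.c_a, Pi.single_eq_of_ne hj] at h7
      exact lt_irrefl _ h7
    · rw [R.not_pos_iff (R.W_mem_Φ hw hk), e, map_add, map_zsmul, map_zsmul, map_add, map_zsmul,
        map_zsmul]
      rw [R.not_pos_iff (R.W_mem_Φ hw (R.a_mem i))] at hi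
      rw [R.not_pos_iff (R.W_mem_Φ hw h2)] at h4
      exact add_nonpos (smul_nonpos_of_nonneg_of_nonpos (by positivity) hi)
        (smul_nonpos_of_nonneg_of_nonpos (by positivity) h4)
  have := mul_mem h5 (C.x_mem_U hr s)
  simpa using this

theorem U_split {w : A l} (hw : w ∈ R.W) {i : Fin l} (hi : ¬ R.pos (w (R.a i))) {u : Γ}
    (hu : u ∈ C.U (R.Inv w)) :
    ∃ t, ∃ v ∈ C.U ((R.Inv w).erase (R.a i)), u = C.x (R.a i) t * v := by
  have key : ∀ r ∈ R.Inv w, ∀ s t, ∀ v ∈ C.U ((R.Inv w).erase (R.a i)),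
      ∃ t', ∃ v' ∈ C.U ((R.Inv w).erase (R.a i)),
        C.x r s * (C.x (R.a i) t * v) = C.x (R.a i) t' * v' := by
    intro r hr s t v hv
    by_cases h : r = R.a i
    · exact ⟨s + t, v, hv, by rw [h, C.x_add _ (R.a_mem i), mul_assoc]⟩
    · refine ⟨t, _, mul_mem (C.x_norm hw hi (-t) (C.x_mem_U (Finset.mem_erase.2 ⟨h, hr⟩) s)) hv,
        ?_⟩
      rw [C.x_neg (R.a_mem i)]; group
  induction hu using Subgroup.closure_induction_left with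
  | one => exact ⟨0, 1, one_mem _, by simp [C.x_zero (R.a_mem i)]⟩
  | mul_left x hx y _ ih =>
    obtain ⟨r, hr, s, rfl⟩ := hx
    obtain ⟨t, v, hv, rfl⟩ := ih
    exact key r hr s t v hv
  | inv_mul_cancel x hx y _ ih =>
    obtain ⟨r, hr, s, rfl⟩ := hx
    obtain ⟨t, v, hv, rfl⟩ := ih
    rw [← C.x_neg (R.mem_Inv.1 hr).1]
    exact key r hr _ t v hv

theorem n_conj_erase {i : Fin l} {m : Γ} (hm : C.Rep m (R.s i)) {u : Γ}
    (hu : u ∈ C.U (R.P.erase (R.a i))) : m * u * m⁻¹ ∈ C.U (R.P.erase (R.a i)) := by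
  refine hm.conj_U (fun r hr => ?_) hu
  obtain ⟨h1, h2⟩ := Finset.mem_erase.1 hr
  obtain ⟨h2, h3⟩ := R.mem_P.1 h2
  exact ⟨h2, Finset.mem_erase.2 ⟨R.s_ne_a h3, R.mem_P.2 ⟨R.s_mem_Φ i h2, R.s_pos h2 h3 h1⟩⟩⟩

theorem x_not_mem {i : Fin l} {t : F} (h : C.x (R.a i) t ∈ C.U (R.P.erase (R.a i))) : t = 0 := by
  have h1 := C.U_mono (Finset.erase_subset _ _) (C.n_conj_erase (C.rep_n i) h)
  rw [C.n_self] at h1
  have := C.tri' h1 (C.x_mem_U (RS.mem_Q.2 ⟨R.neg_mem _ (R.a_mem i), R.not_pos_neg_a i⟩) (-t))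
    (χ := 1) (by simp)
  simpa using C.x_eq_one (R.neg_mem _ (R.a_mem i)) this

theorem U_split_P (i : Fin l) {u : Γ} (hu : u ∈ C.U R.P) :
    ∃ t, ∃ v ∈ C.U (R.P.erase (R.a i)), u = C.x (R.a i) t * v := by
  obtain ⟨w, hw, e⟩ := R.exists_longest
  have hi : R.a i ∈ R.Inv w := by rw [e]; exact R.mem_P.2 ⟨R.a_mem i, R.pos_a i⟩
  rw [← e] at hu ⊢
  exact C.U_split hw (R.mem_Inv.1 hi).2.2 hu

theorem x_norm_P (i : Fin l) (t : F) {u : Γ} (hu : u ∈ C.U (R.P.erase (R.a i))) :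
    C.x (R.a i) t * u * (C.x (R.a i) t)⁻¹ ∈ C.U (R.P.erase (R.a i)) := by
  obtain ⟨w, hw, e⟩ := R.exists_longest
  have hi : R.a i ∈ R.Inv w := by rw [e]; exact R.mem_P.2 ⟨R.a_mem i, R.pos_a i⟩
  rw [← e] at hu ⊢
  exact C.x_norm hw (R.mem_Inv.1 hi).2.2 t hu

end Rel

end Cfsg.Agent.ChevB
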