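import Cfsg.Agent.Lib.ChevB.G1

/-! Bruhat decomposition: existence and uniqueness. -/

set_option autoImplicit false

namespace Cfsg.Agent.ChevB

namespace Rel

variable {l : ℕ} {R : RS l} {F : Type*} [Field F] {Γ : Type*} [Group Γ] (C : Rel R F Γ)

theorem P_sub {r : X l} (hr : r ∈ R.P) : r ∈ R.Φ := (R.mem_P.1 hr).1

/-- the Borel subgroup -/
def Bor : Subgroup Γ where
  carrier := {g | ∃ u ∈ C.U R.P, ∃ χ, g = u * C.h χ}
  one_mem' := ⟨1, one_mem _, 1, by simp⟩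
  mul_mem' := by
    rintro _ _ ⟨u, hu, χ, rfl⟩ ⟨v, hv, ψ, rfl⟩
    exact ⟨_, mul_mem hu (C.h_conj_U χ (fun r => P_sub) hv), χ * ψ, by rw [map_mul]; group⟩
  inv_mem' := by
    rintro _ ⟨u, hu, χ, rfl⟩
    exact ⟨_, C.h_conj_U χ⁻¹ (fun r => P_sub) (inv_mem hu), χ⁻¹, by rw [map_inv]; group⟩

theorem mem_Bor {g : Γ} : g ∈ C.Bor ↔ ∃ u ∈ C.U R.P, ∃ χ, g = u * C.h χ := Iff.rfl

theorem U_le_Bor {u : Γ} (hu : u ∈ C.U R.P) : u ∈ C.Bor := ⟨u, hu, 1, by simp⟩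

theorem h_mem_Bor (χ : Fin l → Fˣ) : C.h χ ∈ C.Bor := ⟨1, one_mem _, χ, by simp⟩

theorem xa_mem_U (i : Fin l) (t : F) : C.x (R.a i) t ∈ C.U R.P :=
  C.x_mem_U (R.mem_P.2 ⟨R.a_mem i, R.pos_a i⟩) t

/-- the double coset `B w B` -/
def cell (w : A l) : Set Γ := {g | ∃ b ∈ C.Bor, ∃ m, C.Rep m w ∧ ∃ b' ∈ C.Bor, g = b * m * b'}

variable {C}

theorem cell_mul_Bor {w : A l} {g b : Γ} (hg : g ∈ C.cell w) (hb : b ∈ C.Bor) :
    g * b ∈ C.cell w := by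
  obtain ⟨b1, h1, m, hm, b2, h2, rfl⟩ := hg
  exact ⟨b1, h1, m, hm, b2 * b, mul_mem h2 hb, by group⟩

theorem Bor_mul_cell {w : A l} {g b : Γ} (hb : b ∈ C.Bor) (hg : g ∈ C.cell w) :
    b * g ∈ C.cell w := by
  obtain ⟨b1, h1, m, hm, b2, h2, rfl⟩ := hg
  exact ⟨b * b1, mul_mem hb h1, m, hm, b2, h2, by group⟩

theorem Rep.mem_cell {w : A l} {m : Γ} (hm : C.Rep m w) : m ∈ C.cell w :=
  ⟨1, one_mem _, m, hm, 1, one_mem _, by simp⟩

theorem cell_inv {w : A l} {g : Γ} (hg : g ∈ C.cell w) : g⁻¹ ∈ C.cell w⁻¹ := by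
  obtain ⟨b1, h1, m, hm, b2, h2, rfl⟩ := hg
  exact ⟨b2⁻¹, inv_mem h2, m⁻¹, hm.inv, b1⁻¹, inv_mem h1, by group⟩

theorem cell_mem_W {w : A l} {g : Γ} (hg : g ∈ C.cell w) : w ∈ R.W := by
  obtain ⟨_, _, m, hm, _⟩ := hg
  exact hm.mem_W

/-- normal form `b m x_a(t) v` -/
theorem cell_form {w : A l} {g : Γ} (hg : g ∈ C.cell w) (i : Fin l) :
    ∃ b ∈ C.Bor, ∃ m, C.Rep m w ∧ ∃ t, ∃ v ∈ C.U (R.P.erase (R.a i)),
      g = b * m * (C.x (R.a i) t * v) := by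
  obtain ⟨b, h1, m, hm, _, ⟨u, hu, χ, rfl⟩, rfl⟩ := hg
  obtain ⟨t, v, hv, e⟩ := C.U_split_P i (C.h_conj_U χ⁻¹ (fun r => P_sub) hu)
  refine ⟨b, h1, m * C.h χ, by simpa using hm.mul (C.rep_h χ), t, v, hv, ?_⟩
  rw [← e, map_inv]; group

theorem n_neg (C : Rel R F Γ) (i : Fin l) (t : F) :
    C.n i * C.x (-R.a i) t * (C.n i)⁻¹ = C.x (R.a i) (-t) := by
  have h1 := C.n_self i (-t)
  rw [neg_neg] at h1
  have := C.h_conj (Pi.mulSingle i (-1)) _ (R.a_mem i) (-t)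
  rw [ev_mulSingle, R.a_self, ← C.n_sq] at this
  simp only [Even.neg_one_zpow, even_two, Units.val_one, one_mul] at this
  rw [← h1]
  conv_rhs => rw [← this]
  group

theorem xn_eq (C : Rel R F Γ) (i : Fin l) (t : Fˣ) : C.x (R.a i) t * C.n i =
    C.x (-R.a i) (t⁻¹ : Fˣ) * C.h (Pi.mulSingle i (-t)) * C.x (R.a i) (-(t⁻¹ : Fˣ)) := by
  have h1 := C.nt i (t⁻¹)
  have h2 := C.n_self i (t⁻¹ : Fˣ)
  have h3 := C.n_neg i (-(t : F))
  have h4 := C.n_act i (Pi.mulSingle i t⁻¹)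
  rw [R.act_s_single, inv_inv] at h4
  rw [inv_inv] at h1
  rw [neg_neg] at h3
  have h5 : C.x (-R.a i) (-(t⁻¹ : Fˣ)) * C.x (R.a i) t * C.x (-R.a i) (-(t⁻¹ : Fˣ))
      = C.h (Pi.mulSingle i t) * C.n i := by
    rw [← h2, ← h3, ← h4]
    calc _ = C.n i * (C.x (R.a i) (t⁻¹ : Fˣ) * C.x (-R.a i) (-(t : F)) *
      C.x (R.a i) (t⁻¹ : Fˣ)) * (C.n i)⁻¹ := by group
      _ = _ := by rw [h1]; group
  have h7 : C.h (Pi.mulSingle i (-t)) = C.h (Pi.mulSingle i t) * (C.n i * C.n i) := by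
    rw [n_sq, ← map_mul, ← Pi.mulSingle_mul]; simp
  rw [C.x_neg (R.neg_mem _ (R.a_mem i))] at h5
  have h9 : C.x (R.a i) t = C.x (-R.a i) (t⁻¹ : Fˣ) * (C.h (Pi.mulSingle i t) * C.n i) *
      C.x (-R.a i) (t⁻¹ : Fˣ) := by rw [← h5]; group
  have h10 : C.x (-R.a i) (t⁻¹ : Fˣ) * C.n i = C.n i * C.x (R.a i) (-(t⁻¹ : Fˣ)) := by
    rw [eq_comm, ← mul_inv_eq_iff_eq_mul, C.n_self, neg_neg]
  rw [h9, h7, mul_assoc, h10]
  group

theorem cell_mul_n_pos {w : A l} {g : Γ} (hg : g ∈ C.cell w) {i : Fin l}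
    (hi : R.pos (w (R.a i))) : g * C.n i ∈ C.cell (w * R.s i) := by
  obtain ⟨b, hb, m, hm, t, v, hv, rfl⟩ := cell_form hg i
  obtain ⟨c, hc⟩ := hm.x_conj (R.a_mem i)
  have h1 : m * C.x (R.a i) t * m⁻¹ ∈ C.Bor := by
    rw [hc]
    exact C.U_le_Bor (C.x_mem_U (R.mem_P.2 ⟨R.W_mem_Φ hm.mem_W (R.a_mem i), hi⟩) _)
  refine ⟨_, mul_mem hb h1, _, hm.mul (C.rep_n i), _, C.U_le_Bor (C.U_mono
    (Finset.erase_subset _ _) (C.n_conj_erase (rep_n_inv i) hv)), by group⟩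

theorem cell_mul_n {w : A l} {g : Γ} (hg : g ∈ C.cell w) (i : Fin l) :
    g * C.n i ∈ C.cell (w * R.s i) ∨ g * C.n i ∈ C.cell w := by
  by_cases hi : R.pos (w (R.a i))
  · exact Or.inl (cell_mul_n_pos hg hi)
  obtain ⟨b, hb, m, hm, t, v, hv, rfl⟩ := cell_form hg i
  have hv' := C.U_le_Bor (C.U_mono (Finset.erase_subset _ _) (C.n_conj_erase (rep_n_inv i) hv))
  by_cases ht : t = 0
  · left
    refine ⟨b, hb, _, hm.mul (C.rep_n i), _, hv', ?_⟩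
    rw [ht, C.x_zero (R.a_mem i)]; group
  · right
    obtain ⟨c, hc⟩ := hm.x_conj (R.neg_mem _ (R.a_mem i))
    have h1 : ∀ s, m * C.x (-R.a i) s * m⁻¹ ∈ C.Bor := by
      intro s
      rw [hc, map_neg]
      have := R.W_mem_Φ hm.mem_W (R.a_mem i)
      exact C.U_le_Bor (C.x_mem_U (R.mem_P.2 ⟨R.neg_mem _ this, (R.pos_neg_iff this).2 hi⟩) _)
    have e := C.xn_eq i (Units.mk0 t ht)
    rw [Units.val_mk0] at e
    refine ⟨_, mul_mem hb (h1 ((Units.mk0 t ht)⁻¹ : Fˣ)), m, hm, _, mul_mem (mul_mem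
      (C.h_mem_Bor (Pi.mulSingle i (-Units.mk0 t ht))) (C.U_le_Bor (C.xa_mem_U i
        (-((Units.mk0 t ht)⁻¹ : Fˣ))))) hv', ?_⟩
    calc _ = b * m * (C.x (R.a i) t * C.n i) * ((C.n i)⁻¹ * v * (C.n i)⁻¹⁻¹) := by group
      _ = _ := by rw [e]; group

theorem cell_mul_rep {w w' : A l} {g m : Γ} (hg : g ∈ C.cell w) (hm : C.Rep m w') :
    ∃ w'', g * m ∈ C.cell w'' := by
  obtain ⟨χ, L, rfl, -⟩ := hm.normal
  have := cell_mul_Bor hg (C.h_mem_Bor χ)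
  rw [← mul_assoc]
  generalize g * C.h χ = g' at this
  clear hg hm
  induction L generalizing g' w with
  | nil => exact ⟨w, by simpa [nw] using this⟩
  | cons i L ih =>
    rw [nw_cons, ← mul_assoc]
    rcases cell_mul_n this i with h | h
    · exact ih _ h
    · exact ih _ h

theorem exists_cell {g : Γ} (hg : g ∈ C.grp) : ∃ w, g ∈ C.cell w := by
  have key : ∀ w, ∀ g ∈ C.cell w, ∀ r ∈ R.Φ, ∀ t, ∃ w', g * C.x r t ∈ C.cell w' := by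
    intro w g hg r hr t
    obtain ⟨y, hy, i, rfl⟩ := R.exists_simple hr
    obtain ⟨m, hm⟩ := C.exists_rep hy
    obtain ⟨c, hc⟩ := hm.x_conj (R.a_mem i)
    have e := hc ((c⁻¹ : Fˣ) * t)
    rw [← mul_assoc, Units.mul_inv, one_mul] at e
    obtain ⟨w1, h1⟩ := cell_mul_rep hg hm
    obtain ⟨w2, h2⟩ := cell_mul_rep (cell_mul_Bor h1 (C.U_le_Bor (C.xa_mem_U i
      ((c⁻¹ : Fˣ) * t)))) hm.inv
    exact ⟨w2, by rw [← e]; simpa [mul_assoc] using h2⟩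
  induction hg using Subgroup.closure_induction_right with
  | one => exact ⟨1, C.rep_one.mem_cell⟩
  | mul_right x _ y hy ih =>
    obtain ⟨w, hw⟩ := ih
    obtain ⟨r, hr, t, rfl⟩ := hy
    exact key w x hw r hr t
  | mul_inv_cancel x _ y hy ih =>
    obtain ⟨w, hw⟩ := ih
    obtain ⟨r, hr, t, rfl⟩ := hy
    rw [← C.x_neg hr]
    exact key w x hw r hr _

theorem Bor_conj_U {b u : Γ} (hb : b ∈ C.Bor) (hu : u ∈ C.U R.P) : b * u * b⁻¹ ∈ C.U R.P := by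
  obtain ⟨v, hv, χ, rfl⟩ := hb
  have := mul_mem (mul_mem hv (C.h_conj_U χ (fun r => P_sub) hu)) (inv_mem hv)
  simpa [mul_assoc] using this

theorem Rep.eq_one_of_Bor {m : Γ} {w : A l} (hm : C.Rep m w) (hb : m ∈ C.Bor) : w = 1 := by
  refine R.eq_one_of_pos hm.mem_W fun i => ?_
  by_contra hi
  obtain ⟨c, hc⟩ := hm.x_conj (R.a_mem i)
  have h1 := Bor_conj_U hb (C.xa_mem_U i 1)
  rw [hc] at h1
  have h2 := R.W_mem_Φ hm.mem_W (R.a_mem i)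
  have := C.tri' h1 (C.x_mem_U (RS.mem_Q.2 ⟨h2, hi⟩) (c * 1)) (χ := 1) (by simp)
  simpa using C.x_eq_one h2 this

theorem cell_unique_aux (k : ℕ) : ∀ {w w' : A l} {m : Γ}, C.Rep m w' → m ∈ C.cell w →
    R.len w' = k → R.len w' ≤ R.len w → w = w' := by
  induction k with
  | zero =>
    intro w w' m hm hc h1 _
    have := R.eq_one_of_len hm.mem_W h1
    subst this
    obtain ⟨χ, rfl⟩ := hm.eq_h
    obtain ⟨b, hb, m', hm', b', hb', e⟩ := hc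
    refine hm'.eq_one_of_Bor ?_
    have : m' = b⁻¹ * C.h χ * b'⁻¹ := by rw [e]; group
    rw [this]
    exact mul_mem (mul_mem (inv_mem hb) (C.h_mem_Bor χ)) (inv_mem hb')
  | succ k ih =>
    intro w w' m hm hc h1 h2
    have : ∃ i, ¬ R.pos (w' (R.a i)) := by
      by_contra h
      push Not at h
      rw [R.eq_one_of_pos hm.mem_W h, R.len_one] at h1
      omega
    obtain ⟨i, hi⟩ := this
    have h3 := R.len_mul_s_of_neg hm.mem_W hi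
    have h4 := R.len_le_mul_s (cell_mem_W hc) i
    rcases cell_mul_n hc i with h | h
    · have := ih (hm.mul (C.rep_n i)) h (by omega) (by omega)
      exact mul_right_cancel this
    · have := ih (hm.mul (C.rep_n i)) h (by omega) (by omega)
      rw [← this] at h3
      omega

theorem cell_unique {w w' : A l} {g : Γ} (h : g ∈ C.cell w) (h' : g ∈ C.cell w') : w = w' := by
  have key : ∀ {w w' : A l}, g ∈ C.cell w → g ∈ C.cell w' → R.len w' ≤ R.len w → w = w' := by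
    intro w w' h h' hl
    obtain ⟨b, hb, m, hm, b', hb', e⟩ := h'
    refine cell_unique_aux _ hm ?_ rfl hl
    have : m = b⁻¹ * g * b'⁻¹ := by rw [e]; group
    rw [this]
    exact cell_mul_Bor (Bor_mul_cell (inv_mem hb) h) (inv_mem hb')
  rcases le_total (R.len w') (R.len w) with hl | hl
  · exact key h h' hl
  · exact (key h' h hl).symm

theorem erase_Inv {w : A l} (hw : w ∈ R.W) {i : Fin l} (hi : R.pos (w (R.a i))) :
    (R.Inv (w * R.s i)).erase (R.a i) = (R.Inv w).image (R.s i) := by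
  rw [R.Inv_mul_s hw hi, Finset.erase_insert (R.a_not_mem_image w i)]

/-- sharp form of the Bruhat decomposition -/
theorem sharp {w : A l} (hw : w ∈ R.W) : ∀ m, C.Rep m w → ∀ u ∈ C.U R.P,
    ∃ b ∈ C.Bor, ∃ v ∈ C.U (R.Inv w), m * u = b * m * v := by
  refine R.W_induction (p := fun w => ∀ m, C.Rep m w → ∀ u ∈ C.U R.P,
    ∃ b ∈ C.Bor, ∃ v ∈ C.U (R.Inv w), m * u = b * m * v) ?_ ?_ hw
  · intro m hm u hu
    obtain ⟨χ, rfl⟩ := hm.eq_h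
    exact ⟨_, C.U_le_Bor (C.h_conj_U χ (fun r => P_sub) hu), 1, one_mem _, by group⟩
  · intro w hw i hi ih m hm u hu
    obtain ⟨t, v, hv, rfl⟩ := C.U_split_P i hu
    have hm' : C.Rep (m * (C.n i)⁻¹) w := by
      have := hm.mul (rep_n_inv i)
      rwa [mul_assoc, R.s_mul_s, mul_one] at this
    obtain ⟨b, hb, v', hv', e⟩ := ih _ hm' _ (C.U_mono (Finset.erase_subset _ _)
      (C.n_conj_erase (C.rep_n i) (C.x_norm_P i t hv)))
    have h1 : (C.n i)⁻¹ * v' * (C.n i)⁻¹⁻¹ ∈ C.U (R.Inv (w * R.s i)) := by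
      refine (rep_n_inv i).conj_U (fun r hr => ⟨(R.mem_Inv.1 hr).1, ?_⟩) hv'
      rw [R.Inv_mul_s hw hi]
      exact Finset.mem_insert_of_mem (Finset.mem_image_of_mem _ hr)
    have h2 : C.x (R.a i) t ∈ C.U (R.Inv (w * R.s i)) :=
      C.x_mem_U (by rw [R.Inv_mul_s hw hi]; exact Finset.mem_insert_self _ _) t
    refine ⟨b, hb, _, mul_mem h1 h2, ?_⟩
    calc _ = m * (C.n i)⁻¹ * (C.n i * (C.x (R.a i) t * v * (C.x (R.a i) t)⁻¹) * (C.n i)⁻¹) *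
        C.n i * C.x (R.a i) t := by group
      _ = _ := by rw [e]; group

theorem cell_sharp {w : A l} {g m : Γ} (hg : g ∈ C.cell w) (hm : C.Rep m w) :
    ∃ u ∈ C.U R.P, ∃ χ, ∃ v ∈ C.U (R.Inv w), g = u * C.h χ * m * v := by
  obtain ⟨b, hb, m', hm', _, ⟨u, hu, χ, rfl⟩, rfl⟩ := hg
  have h1 : C.Rep (m' * C.h χ) w := by simpa using hm'.mul (C.rep_h χ)
  obtain ⟨ψ, e⟩ := hm.unique h1
  obtain ⟨b', hb', v, hv, e'⟩ := sharp hm.mem_W m hm _ (C.h_conj_U χ⁻¹ (fun r => P_sub) hu)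
  obtain ⟨u', hu', χ', e''⟩ := mul_mem (mul_mem hb (C.h_mem_Bor ψ)) hb'
  refine ⟨u', hu', χ', v, hv, ?_⟩
  rw [← e'']
  calc _ = b * (m' * C.h χ) * (C.h χ⁻¹ * u * (C.h χ⁻¹)⁻¹) := by rw [map_inv]; group
    _ = b * C.h ψ * (m * (C.h χ⁻¹ * u * (C.h χ⁻¹)⁻¹)) := by rw [e]; group
    _ = _ := by rw [e']; group

theorem Inv_sub_P (w : A l) : R.Inv w ⊆ R.P := Finset.filter_subset _ _

theorem sharp_unique {w : A l} {m : Γ} (hm : C.Rep m w) {u u' v v' : Γ} (hu : u ∈ C.U R.P)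
    (hu' : u' ∈ C.U R.P) (hv : v ∈ C.U (R.Inv w)) (hv' : v' ∈ C.U (R.Inv w))
    {χ χ' : Fin l → Fˣ} (e : u * C.h χ * m * v = u' * C.h χ' * m * v') :
    u = u' ∧ χ = χ' ∧ v = v' := by
  have h1 : m * (v * v'⁻¹) * m⁻¹ ∈ C.U R.Q :=
    hm.conj_U (fun r hr => ⟨(R.mem_Inv.1 hr).1, RS.mem_Q.2
      ⟨R.W_mem_Φ hm.mem_W (R.mem_Inv.1 hr).1, (R.mem_Inv.1 hr).2.2⟩⟩) (mul_mem hv (inv_mem hv'))
  obtain ⟨u1, hu1, ψ, e1⟩ := mul_mem (inv_mem (mul_mem (C.U_le_Bor hu) (C.h_mem_Bor χ)))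
    (mul_mem (C.U_le_Bor hu') (C.h_mem_Bor χ'))
  have h2 := C.tri' hu1 h1 (χ := ψ) (by
    rw [← e1]
    calc _ = (u * C.h χ)⁻¹ * (u' * C.h χ' * m * v') * v'⁻¹ * m⁻¹ := by group
      _ = _ := by rw [← e]; group)
  have h3 : v = v' := by simpa [mul_inv_eq_one] using h2
  subst h3
  have h4 : u * C.h χ = u' * C.h χ' := mul_right_cancel (mul_right_cancel e)
  have h5 : C.h (χ' * χ⁻¹) ∈ C.U R.P := by
    have : C.h (χ' * χ⁻¹) = u'⁻¹ * u := by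
      rw [map_mul, map_inv, mul_inv_eq_iff_eq_mul, mul_assoc, h4]; group
    rw [this]; exact mul_mem (inv_mem hu') hu
  have h6 : χ = χ' := (mul_inv_eq_one.1 (C.U_inter_H h5)).symm
  subst h6
  exact ⟨mul_right_cancel h4, rfl, rfl⟩

end Rel

end Cfsg.Agent.ChevB
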