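import Cfsg.Agent.Lib.ChevB.W2

/-! Poincaré sums of reflection subgroups: chamber independence and the chain lemma. -/

set_option autoImplicit false

namespace Cfsg.Agent.ChevB

namespace RS

variable {l : ℕ} (R : RS l)

/-- `V` is a subgroup of `W` stabilising `Ψ` and containing its reflections -/
structure Adm (V : Subgroup (A l)) (Ψ : Finset (X l)) : Prop where
  le : V ≤ R.W
  sub : ∀ r ∈ Ψ, r ∈ R.Φ
  neg : ∀ r ∈ Ψ, -r ∈ Ψ
  stab : ∀ w ∈ V, ∀ r ∈ Ψ, w r ∈ Ψ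
  refl : ∀ r ∈ Ψ, ∃ g ∈ V, R.IsRefl r g

theorem W_finite : (R.W : Set (A l)).Finite :=
  Set.finite_coe_iff.1 (inferInstanceAs (Finite R.W))

open Classical in
/-- elements of `V ≤ W` as a finset -/
noncomputable def VF (V : Subgroup (A l)) : Finset (A l) :=
  R.W_finite.toFinset.filter (· ∈ V)

theorem mem_VF {V : Subgroup (A l)} (hV : V ≤ R.W) {w : A l} : w ∈ R.VF V ↔ w ∈ V := by
  simp only [VF, Finset.mem_filter, Set.Finite.mem_toFinset, SetLike.mem_coe]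
  exact ⟨fun h => h.2, fun h => ⟨hV h, h⟩⟩

/-- number of inversions between two chambers -/
def cnt (Ψ : Finset (X l)) (u v : X l) (w : A l) : ℕ :=
  (Ψ.filter fun r => 0 < R.B u r ∧ R.B v (w r) < 0).card

/-- Poincaré sum -/
noncomputable def PS (q : ℕ) (V : Subgroup (A l)) (Ψ : Finset (X l)) (u v : X l) : ℕ :=
  ∑ w ∈ R.VF V, q ^ R.cnt Ψ u v w

variable {R} {V : Subgroup (A l)} {Ψ : Finset (X l)}

theorem Adm.dom (h : R.Adm V Ψ) (u μ : X l) :
    ∃ y ∈ V, ∀ r ∈ Ψ, 0 < R.B u r → 0 ≤ R.B (y μ) r := by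
  obtain ⟨y, hy, hmax⟩ := Finset.exists_max_image (R.VF V) (fun y => R.B u (y μ))
    ⟨1, (R.mem_VF h.le).2 (one_mem _)⟩
  rw [R.mem_VF h.le] at hy
  refine ⟨y, hy, fun r hr hu => ?_⟩
  obtain ⟨g, hg, hgr⟩ := h.refl r hr
  have := hmax (g * y) ((R.mem_VF h.le).2 (mul_mem hg hy))
  obtain ⟨k, h1, h2⟩ := hgr (y μ)
  simp only [LinearEquiv.mul_apply] at this
  rw [h2, B_sub_right, B_smul_right] at this
  have hk : 0 ≤ k := by
    by_contra hk
    have := mul_neg_of_neg_of_pos (not_le.1 hk) hu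
    omega
  have := mul_nonneg hk (R.B_self_pos (h.sub r hr)).le
  omega

/-- genericity -/
def Gen (R : RS l) (Ψ : Finset (X l)) (u : X l) : Prop := ∀ r ∈ Ψ, R.B u r ≠ 0

theorem Adm.gen_apply (h : R.Adm V Ψ) {u : X l} (hu : R.Gen Ψ u) {y : A l} (hy : y ∈ V) :
    R.Gen Ψ (y u) := by
  intro r hr
  rw [← apply_inv_apply y r, R.B_W (h.le hy)]
  exact hu _ (h.stab _ (inv_mem hy) r hr)

theorem Adm.chamber (h : R.Adm V Ψ) {u u' : X l} (hu : R.Gen Ψ u) (hu' : R.Gen Ψ u') :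
    ∃ y ∈ V, ∀ r ∈ Ψ, (0 < R.B u r ↔ 0 < R.B (y u') r) ∧ (R.B u r < 0 ↔ R.B (y u') r < 0) := by
  obtain ⟨y, hy, H⟩ := h.dom u u'
  refine ⟨y, hy, fun r hr => ?_⟩
  have h1 := H r hr
  have h2 := H (-r) (h.neg r hr)
  rw [B_neg_right, B_neg_right] at h2
  have h3 := hu r hr
  have h4 := h.gen_apply hu' hy r hr
  omega

theorem Adm.card_filter (h : R.Adm V Ψ) {y : A l} (hy : y ∈ V) (p : X l → Prop)
    [DecidablePred p] : (Ψ.filter fun r => p (y r)).card = (Ψ.filter p).card := by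
  refine Finset.card_bij (fun r _ => y r) ?_ ?_ ?_
  · intro r hr
    rw [Finset.mem_filter] at hr ⊢
    exact ⟨h.stab y hy r hr.1, hr.2⟩
  · intro r _ r' _ e
    exact y.injective e
  · intro r hr
    rw [Finset.mem_filter] at hr
    refine ⟨y⁻¹ r, ?_, apply_inv_apply y r⟩
    rw [Finset.mem_filter, apply_inv_apply]
    exact ⟨h.stab _ (inv_mem hy) r hr.1, hr.2⟩

theorem Adm.sum_mul_right (h : R.Adm V Ψ) {y : A l} (hy : y ∈ V) (f : A l → ℕ) :
    ∑ w ∈ R.VF V, f (w * y) = ∑ w ∈ R.VF V, f w := by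
  refine Finset.sum_nbij' (fun w => w * y) (fun w => w * y⁻¹) ?_ ?_ ?_ ?_ ?_ <;>
    simp only [R.mem_VF h.le]
  · exact fun w hw => mul_mem hw hy
  · exact fun w hw => mul_mem hw (inv_mem hy)
  · intro w _; simp
  · intro w _; simp
  · simp

theorem Adm.sum_mul_left (h : R.Adm V Ψ) {y : A l} (hy : y ∈ V) (f : A l → ℕ) :
    ∑ w ∈ R.VF V, f (y * w) = ∑ w ∈ R.VF V, f w := by
  refine Finset.sum_nbij' (fun w => y * w) (fun w => y⁻¹ * w) ?_ ?_ ?_ ?_ ?_ <;>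
    simp only [R.mem_VF h.le]
  · exact fun w hw => mul_mem hy hw
  · exact fun w hw => mul_mem (inv_mem hy) hw
  · intro w _; simp
  · intro w _; simp
  · simp

theorem Adm.PS_left (h : R.Adm V Ψ) (q : ℕ) {u u' : X l} (hu : R.Gen Ψ u) (hu' : R.Gen Ψ u')
    (v : X l) : R.PS q V Ψ u v = R.PS q V Ψ u' v := by
  obtain ⟨y, hy, H⟩ := h.chamber hu hu'
  rw [PS, PS, ← h.sum_mul_right hy (fun w => q ^ R.cnt Ψ u' v w)]
  refine Finset.sum_congr rfl fun w _ => ?_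
  congr 1
  rw [cnt, cnt, ← h.card_filter hy]
  congr 1
  refine Finset.filter_congr fun r hr => ?_
  rw [(H _ (h.stab y hy r hr)).1, R.B_W (h.le hy), LinearEquiv.mul_apply]

theorem Adm.PS_right (h : R.Adm V Ψ) (q : ℕ) (u : X l) {v v' : X l} (hv : R.Gen Ψ v)
    (hv' : R.Gen Ψ v') : R.PS q V Ψ u v = R.PS q V Ψ u v' := by
  obtain ⟨y, hy, H⟩ := h.chamber hv hv'
  rw [PS, PS, ← h.sum_mul_left (inv_mem hy) (fun w => q ^ R.cnt Ψ u v' w)]
  refine Finset.sum_congr rfl fun w hw => ?_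
  rw [R.mem_VF h.le] at hw
  congr 1
  rw [cnt, cnt]
  congr 1
  refine Finset.filter_congr fun r hr => ?_
  rw [(H _ (h.stab w hw r hr)).2, LinearEquiv.mul_apply, R.B_W' (h.le (inv_mem hy)), inv_inv]

/-- stabiliser of a vector -/
def fix (μ : X l) : Subgroup (A l) where
  carrier := {w | w μ = μ}
  one_mem' := rfl
  mul_mem' {a b} ha hb := by
    simp only [Set.mem_setOf_eq] at ha hb ⊢
    rw [LinearEquiv.mul_apply, hb, ha]
  inv_mem' {a} ha := by
    simp only [Set.mem_setOf_eq] at ha ⊢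
    conv_lhs => rw [← ha]
    exact inv_apply_apply a μ

theorem mem_fix {μ : X l} {w : A l} : w ∈ fix μ ↔ w μ = μ := Iff.rfl

theorem Adm.step (h : R.Adm V Ψ) (μ : X l) :
    R.Adm (V ⊓ fix μ) (Ψ.filter fun r => R.B μ r = 0) where
  le := inf_le_left.trans h.le
  sub r hr := h.sub r (Finset.mem_filter.1 hr).1
  neg r hr := by
    rw [Finset.mem_filter] at hr ⊢
    exact ⟨h.neg r hr.1, by rw [B_neg_right, hr.2, neg_zero]⟩
  stab w hw r hr := by
    rw [Finset.mem_filter] at hr ⊢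
    refine ⟨h.stab w hw.1 r hr.1, ?_⟩
    rw [← mem_fix.1 hw.2, R.B_W (h.le hw.1), hr.2]
  refl r hr := by
    rw [Finset.mem_filter] at hr
    obtain ⟨g, hg, hgr⟩ := h.refl r hr.1
    refine ⟨g, ⟨hg, ?_⟩, hgr⟩
    obtain ⟨k, h1, h2⟩ := hgr μ
    rw [hr.2, mul_zero, mul_eq_zero] at h1
    have hk : k = 0 := h1.resolve_right (R.B_self_pos (h.sub r hr.1)).ne'
    change g μ = μ
    rw [h2, hk]; simp

/-- number of positive roots of `Ψ` negative on `μ` -/
def nn (R : RS l) (Ψ : Finset (X l)) (μ : X l) : ℕ :=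
  (Ψ.filter fun r => 0 < R.B (ρ l) r ∧ R.B μ r < 0).card

theorem Adm.gen_ρ (h : R.Adm V Ψ) : R.Gen Ψ (ρ l) := fun r hr => R.B_ρ_ne (h.sub r hr)

theorem Adm.chain (h : R.Adm V Ψ) (q : ℕ) (lam : X l) (O : Finset (X l))
    (hO : ∀ μ, μ ∈ O ↔ ∃ w ∈ V, w lam = μ) :
    R.PS q V Ψ (ρ l) (ρ l) = (∑ μ ∈ O, q ^ R.nn Ψ μ) *
      R.PS q (V ⊓ fix lam) (Ψ.filter fun r => R.B lam r = 0) (ρ l) (ρ l) := by
  classical
  set N : ℤ := 1 + ∑ r ∈ Ψ, |R.B (ρ l) r| with hN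
  have hNr : ∀ r ∈ Ψ, |R.B (ρ l) r| < N := by
    intro r hr
    have := Finset.single_le_sum (f := fun r => |R.B (ρ l) r|) (fun r _ => abs_nonneg _) hr
    omega
  have hu : ∀ r ∈ Ψ, (R.B lam r = 0 → R.B (N • lam + ρ l) r = R.B (ρ l) r) ∧
      (0 < R.B lam r → 0 < R.B (N • lam + ρ l) r) ∧
      (R.B lam r < 0 → R.B (N • lam + ρ l) r < 0) := by
    intro r hr
    have h1 := hNr r hr
    rw [abs_lt] at h1
    rw [B_add_left, B_smul_left]
    refine ⟨fun e => by rw [e]; ring, fun e => by nlinarith, fun e => by nlinarith⟩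
  have hgen : R.Gen Ψ (N • lam + ρ l) := by
    intro r hr
    have := hu r hr
    have := h.gen_ρ r hr
    omega
  have hs := h.step lam
  rw [h.PS_left q h.gen_ρ hgen, PS, ← Finset.sum_fiberwise_of_maps_to (t := O)
    (g := fun w : A l => w lam) (fun w hw => (hO _).2 ⟨w, (R.mem_VF h.le).1 hw, rfl⟩),
    Finset.sum_mul]
  refine Finset.sum_congr rfl fun μ hμ => ?_
  obtain ⟨w0, hw0, rfl⟩ := (hO μ).1 hμ
  have hgen2 : R.Gen (Ψ.filter fun r => R.B lam r = 0) (w0⁻¹ (ρ l)) := fun r hr =>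
    h.gen_apply h.gen_ρ (inv_mem hw0) r (Finset.mem_filter.1 hr).1
  rw [hs.PS_right q _ hs.gen_ρ hgen2, PS, Finset.mul_sum]
  symm
  refine Finset.sum_nbij' (fun y => w0 * y) (fun w => w0⁻¹ * w) ?_ ?_ ?_ ?_ ?_
  · intro y hy
    rw [R.mem_VF hs.le] at hy
    rw [Finset.mem_filter, R.mem_VF h.le, LinearEquiv.mul_apply, mem_fix.1 hy.2]
    exact ⟨mul_mem hw0 hy.1, rfl⟩
  · intro w hw
    rw [Finset.mem_filter, R.mem_VF h.le] at hw
    rw [R.mem_VF hs.le]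
    refine Subgroup.mem_inf.2 ⟨mul_mem (inv_mem hw0) hw.1, ?_⟩
    change (w0⁻¹ * w) lam = lam
    rw [LinearEquiv.mul_apply, hw.2, inv_apply_apply]
  · intro w _; simp
  · intro w _; simp
  · intro y hy
    rw [R.mem_VF hs.le] at hy
    rw [← pow_add]
    congr 1
    have hw : w0 * y ∈ V := mul_mem hw0 hy.1
    rw [cnt, cnt, ← Finset.card_filter_add_card_filter_not
      (s := Ψ.filter fun r => 0 < R.B (N • lam + ρ l) r ∧ R.B (ρ l) ((w0 * y) r) < 0)
      (fun r => R.B lam r = 0), add_comm]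
    congr 1
    · congr 1
      ext r
      simp only [Finset.mem_filter]
      rw [LinearEquiv.mul_apply, R.B_W' (h.le hw0)]
      constructor
      · rintro ⟨⟨h1, h2⟩, h3, h4⟩
        exact ⟨⟨h1, by rw [(hu r h1).1 h2]; exact h3, h4⟩, h2⟩
      · rintro ⟨⟨h1, h3, h4⟩, h2⟩
        exact ⟨⟨h1, h2⟩, by rw [← (hu r h1).1 h2]; exact h3, h4⟩
    · rw [nn, ← h.card_filter hw]
      have e : ∀ r, R.B (w0 lam) ((w0 * y) r) = R.B lam r := by
        intro r
        rw [← R.B_W (h.le hw) lam r, LinearEquiv.mul_apply w0 y lam, mem_fix.1 hy.2]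
      refine Finset.card_bij (fun r _ => -r) ?_ ?_ ?_
      · intro r hr
        simp only [Finset.mem_filter, e] at hr ⊢
        have := hu _ (h.neg r hr.1)
        rw [map_neg]
        simp only [B_neg_right] at this ⊢
        refine ⟨⟨h.neg r hr.1, ?_, ?_⟩, ?_⟩ <;> omega
      · intro r _ r' _ e
        exact neg_injective e
      · intro r hr
        simp only [Finset.mem_filter] at hr
        refine ⟨-r, ?_, neg_neg r⟩
        simp only [Finset.mem_filter, e]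
        have := hu _ hr.1.1
        rw [map_neg]
        simp only [B_neg_right]
        refine ⟨h.neg r hr.1.1, ?_, ?_⟩ <;> omega

theorem Adm.PS_triv (h : R.Adm V Ψ) (q : ℕ) (hV : ∀ w ∈ V, ∀ i, w (R.a i) = R.a i) :
    R.PS q V Ψ (ρ l) (ρ l) = 1 := by
  have : R.VF V = {1} := by
    ext w
    rw [R.mem_VF h.le, Finset.mem_singleton]
    exact ⟨fun hw => R.ext_a (hV w hw), fun hw => hw ▸ one_mem _⟩
  rw [PS, this, Finset.sum_singleton, cnt, Finset.filter_eq_empty_iff.2, Finset.card_empty,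
    pow_zero]
  intro r _
  rw [one_apply]
  omega

end RS

end Cfsg.Agent.ChevB
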