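import Cfsg.Agent.Lib.ChevB.G2
import Cfsg.Agent.Lib.ChevB.W3

/-! Orders of centralisers of torus elements. -/

set_option autoImplicit false

namespace Cfsg.Agent.ChevB

open Classical in
/-- roots in the kernel of `χ` -/
noncomputable def RS.kerΦ {l : ℕ} (R : RS l) {F : Type*} [Field F] (χ : Fin l → Fˣ)
    (S : Finset (X l)) : Finset (X l) := S.filter fun r => ev χ r = 1

theorem RS.mem_kerΦ {l : ℕ} (R : RS l) {F : Type*} [Field F] {χ : Fin l → Fˣ}
    {S : Finset (X l)} {r : X l} : r ∈ R.kerΦ χ S ↔ r ∈ S ∧ ev χ r = 1 := by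
  simp [RS.kerΦ]

/-- stabiliser of a character in `W` -/
def RS.stab {l : ℕ} (R : RS l) {F : Type*} [Field F] (χ : Fin l → Fˣ) : Subgroup (A l) where
  carrier := {w | w ∈ R.W ∧ act w χ = χ}
  one_mem' := ⟨one_mem _, act_one χ⟩
  mul_mem' {a b} ha hb := ⟨mul_mem ha.1 hb.1, by rw [act_mul, ha.2, hb.2]⟩
  inv_mem' {a} ha := ⟨inv_mem ha.1, by
    conv_lhs => rw [← ha.2, ← act_mul, mul_inv_cancel, act_one]⟩

theorem RS.adm_stab {l : ℕ} (R : RS l) {F : Type*} [Field F] (χ : Fin l → Fˣ) :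
    R.Adm (R.stab χ) (R.kerΦ χ R.Φ) where
  le _ hw := hw.1
  sub r hr := (R.mem_kerΦ.1 hr).1
  neg r hr := by
    rw [R.mem_kerΦ] at hr ⊢
    exact ⟨R.neg_mem r hr.1, by rw [ev_neg, hr.2, inv_one]⟩
  stab w hw r hr := by
    rw [R.mem_kerΦ] at hr ⊢
    exact ⟨R.W_mem_Φ hw.1 hr.1, by rw [← ev_act, hw.2, hr.2]⟩
  refl r hr := by
    rw [R.mem_kerΦ] at hr
    obtain ⟨g, hg, h⟩ := R.exists_refl hr.1
    refine ⟨g, ⟨hg, ev_ext fun μ => ?_⟩, h⟩
    obtain ⟨k, -, e⟩ := h μ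
    rw [ev_act, e, ev_sub, ev_smul, hr.2]; simp

namespace Rel

variable {l : ℕ} {R : RS l} {F : Type*} [Field F] {Γ : Type*} [Group Γ] (C : Rel R F Γ)

theorem x_mem_grp {r : X l} (hr : r ∈ R.Φ) (t : F) : C.x r t ∈ C.grp := C.x_mem_U hr t

theorem n_mem_grp (i : Fin l) : C.n i ∈ C.grp := by
  rw [C.n_def]
  exact mul_mem (mul_mem (C.x_mem_grp (R.a_mem i) _) (C.x_mem_grp (R.neg_mem _ (R.a_mem i)) _))
    (C.x_mem_grp (R.a_mem i) _)

theorem h_mem_grp (χ : Fin l → Fˣ) : C.h χ ∈ C.grp := by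
  have : χ ∈ C.grp.comap C.h := by
    rw [← Finset.univ_prod_mulSingle χ]
    refine Subgroup.prod_mem _ fun i _ => ?_
    rw [Subgroup.mem_comap, ← mul_inv_cancel_right (C.h _) (C.n i), ← C.nt]
    exact mul_mem (mul_mem (mul_mem (C.x_mem_grp (R.a_mem i) _)
      (C.x_mem_grp (R.neg_mem _ (R.a_mem i)) _)) (C.x_mem_grp (R.a_mem i) _))
      (inv_mem (C.n_mem_grp i))
  exact this

theorem Rep.mem_grp {C : Rel R F Γ} {m : Γ} {w : A l} (h : C.Rep m w) : m ∈ C.grp := by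
  obtain ⟨χ, L, rfl, -⟩ := h.normal
  refine mul_mem (C.h_mem_grp χ) (Subgroup.list_prod_mem _ fun g hg => ?_)
  obtain ⟨i, -, rfl⟩ := List.mem_map.1 hg
  exact C.n_mem_grp i

theorem U_le_grp {u : Γ} (hu : u ∈ C.U R.P) : u ∈ C.grp :=
  C.U_mono (Finset.filter_subset _ _) hu

/-- centraliser of `h χ` in `U S` -/
abbrev CU (S : Finset (X l)) (χ : Fin l → Fˣ) : Type _ :=
  {u : Γ // u ∈ C.U S ∧ C.h χ * u * (C.h χ)⁻¹ = u}

theorem card_fixed [Fintype F] (c : Fˣ) [Decidable (c = 1)] :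
    Nat.card {t : F // (c : F) * t = t} = Fintype.card F ^ (if c = 1 then 1 else 0) := by
  split_ifs with h
  · rw [pow_one, ← Nat.card_eq_fintype_card]
    exact Nat.card_congr (Equiv.subtypeUnivEquiv fun t => by simp [h])
  · rw [pow_zero, Nat.card_eq_one_iff_exists]
    refine ⟨⟨0, by simp⟩, fun t => Subtype.ext ?_⟩
    by_contra h0
    exact h (Units.ext (by simpa using (mul_eq_right₀ h0).1 t.2))

theorem card_CU [Fintype F] {w : A l} (hw : w ∈ R.W) : ∀ χ : Fin l → Fˣ,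
    Nat.card (C.CU (R.Inv w) χ) = Fintype.card F ^ (R.kerΦ χ (R.Inv w)).card := by
  classical
  refine R.W_induction (p := fun w => ∀ χ : Fin l → Fˣ,
    Nat.card (C.CU (R.Inv w) χ) = Fintype.card F ^ (R.kerΦ χ (R.Inv w)).card) ?_ ?_ hw
  · intro χ
    have e : R.Inv 1 = ∅ := Finset.card_eq_zero.1 R.len_one
    rw [e, RS.kerΦ, Finset.filter_empty, Finset.card_empty, pow_zero, Nat.card_eq_one_iff_exists]
    refine ⟨⟨1, one_mem _, by simp⟩, fun u => Subtype.ext ?_⟩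
    have := u.2.1
    simpa [U] using this
  · intro w hw i hi ih χ
    have hI := R.Inv_mul_s hw hi
    have hE := erase_Inv hw hi
    have hsub : (R.Inv (w * R.s i)).erase (R.a i) ⊆ R.P.erase (R.a i) :=
      Finset.erase_subset_erase _ (Inv_sub_P _)
    have hconj : ∀ v ∈ C.U (R.Inv w), C.n i * v * (C.n i)⁻¹ ∈
        C.U ((R.Inv (w * R.s i)).erase (R.a i)) := fun v hv =>
      (C.rep_n i).conj_U (fun r hr => ⟨(R.mem_Inv.1 hr).1, by
        rw [hE]; exact Finset.mem_image_of_mem _ hr⟩) hv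
    have huniq : ∀ t t', ∀ v ∈ C.U ((R.Inv (w * R.s i)).erase (R.a i)),
        ∀ v' ∈ C.U ((R.Inv (w * R.s i)).erase (R.a i)),
        C.x (R.a i) t * v = C.x (R.a i) t' * v' → t = t' ∧ v = v' := by
      intro t t' v hv v' hv' e
      have h1 : C.x (R.a i) (-t' + t) = v' * v⁻¹ := by
        rw [C.x_add _ (R.a_mem i), C.x_neg (R.a_mem i), eq_mul_inv_iff_mul_eq, mul_assoc, e]
        group
      have h2 := C.x_not_mem (h1 ▸ C.U_mono hsub (mul_mem hv' (inv_mem hv)))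
      have h3 : t = t' := by linear_combination h2
      subst h3
      exact ⟨rfl, mul_left_cancel e⟩
    have hh := (C.rep_n i).h_conj' χ
    let f : {t : F // (ev χ (R.a i) : F) * t = t} × C.CU (R.Inv w) (act (R.s i) χ) →
        C.CU (R.Inv (w * R.s i)) χ := fun p =>
      ⟨C.x (R.a i) p.1.1 * (C.n i * p.2.1 * (C.n i)⁻¹),
        mul_mem (C.x_mem_U (by rw [hI]; exact Finset.mem_insert_self _ _) _)
          (C.U_mono (Finset.erase_subset _ _) (hconj _ p.2.2.1)), by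
        have h1 := C.h_conj χ _ (R.a_mem i) p.1.1
        have h2 : ((C.n i)⁻¹ * C.h χ * C.n i) * p.2.1 * ((C.n i)⁻¹ * C.h χ * C.n i)⁻¹ = p.2.1 := by
          rw [hh]; exact p.2.2.2
        rw [p.1.2] at h1
        conv_rhs => rw [← h1, ← h2]
        group⟩
    have hf : Function.Bijective f := by
      constructor
      · intro p p' e
        have := huniq _ _ _ (hconj _ p.2.2.1) _ (hconj _ p'.2.2.1) (congrArg Subtype.val e)
        refine Prod.ext (Subtype.ext this.1) (Subtype.ext ?_)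
        simpa using this.2
      · rintro ⟨u, hu, hc⟩
        obtain ⟨t, v, hv, rfl⟩ := C.U_split (mul_mem hw (R.s_mem i)) (i := i) (by
          have : R.a i ∈ R.Inv (w * R.s i) := by rw [hI]; exact Finset.mem_insert_self _ _
          exact (R.mem_Inv.1 this).2.2) hu
        have h1 := huniq (ev χ (R.a i) * t) t _ (C.h_conj_U χ (fun r hr => (R.mem_Inv.1
          (Finset.mem_of_mem_erase hr)).1) hv) _ hv (by
            rw [← hc, ← C.h_conj χ _ (R.a_mem i)]; group)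
        refine ⟨(⟨t, h1.1⟩, ⟨(C.n i)⁻¹ * v * (C.n i)⁻¹⁻¹, (rep_n_inv i).conj_U (fun r hr => ?_) hv,
          ?_⟩), Subtype.ext ?_⟩
        · rw [hE] at hr
          obtain ⟨r', h2, rfl⟩ := Finset.mem_image.1 hr
          exact ⟨R.s_mem_Φ i (R.mem_Inv.1 h2).1, by rwa [R.s_s]⟩
        · rw [← hh]
          conv_rhs => rw [← h1.2]
          group
        · simp [f, mul_assoc]
    rw [← Nat.card_eq_of_bijective f hf, Nat.card_prod, card_fixed, ih, ← pow_add, hI, RS.kerΦ,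
      RS.kerΦ, Finset.filter_insert, Finset.filter_image]
    congr 1
    have hc : ((R.Inv w).filter fun r => ev (act (R.s i) χ) r = 1).card =
        (((R.Inv w).filter fun r => ev χ (R.s i r) = 1).image (R.s i)).card := by
      rw [Finset.card_image_of_injective _ (R.s i).injective]
      simp only [ev_act]
    split_ifs with h
    · rw [Finset.card_insert_of_notMem, add_comm]
      · convert congrArg (· + 1) hc
      · exact fun h' => R.a_not_mem_image w i (Finset.image_subset_image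
          (Finset.filter_subset _ _) h')
    · rw [zero_add]
      convert hc

theorem card_CU_P [Fintype F] (χ : Fin l → Fˣ) :
    Nat.card (C.CU R.P χ) = Fintype.card F ^ (R.kerΦ χ R.P).card := by
  obtain ⟨w, hw, e⟩ := R.exists_longest
  rw [← e]
  exact C.card_CU hw χ

theorem card_U_P [Fintype F] : Nat.card (C.U R.P) = Fintype.card F ^ R.P.card := by
  have := C.card_CU_P 1
  have e : R.kerΦ (1 : Fin l → Fˣ) R.P = R.P := by
    ext r; simp [R.mem_kerΦ, ev_one]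
  rw [e] at this
  rw [← this]
  exact Nat.card_congr (Equiv.subtypeEquivRight fun u => by simp)

theorem cnt_eq (χ : Fin l → Fˣ) {w : A l} (hw : w ∈ R.W) :
    (R.kerΦ χ (R.Inv w)).card = R.cnt (R.kerΦ χ R.Φ) (RS.ρ l) (RS.ρ l) w := by
  rw [RS.cnt]
  congr 1
  ext r
  simp only [R.mem_kerΦ, R.mem_Inv, Finset.mem_filter]
  constructor
  · rintro ⟨⟨h1, h2, h3⟩, h4⟩
    exact ⟨⟨h1, h4⟩, (R.B_ρ_pos h1).2 h2, (R.B_ρ_neg (R.W_mem_Φ hw h1)).2 h3⟩
  · rintro ⟨⟨h1, h4⟩, h2, h3⟩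
    exact ⟨⟨h1, (R.B_ρ_pos h1).1 h2, (R.B_ρ_neg (R.W_mem_Φ hw h1)).1 h3⟩, h4⟩

theorem card_cent [Fintype F] (χ : Fin l → Fˣ) :
    Nat.card {g : Γ // g ∈ C.grp ∧ C.h χ * g * (C.h χ)⁻¹ = g} =
      Fintype.card F ^ (R.kerΦ χ R.P).card * (Fintype.card F - 1) ^ l *
        R.PS (Fintype.card F) (R.stab χ) (R.kerΦ χ R.Φ) (RS.ρ l) (RS.ρ l) := by
  classical
  have hle : R.stab χ ≤ R.W := fun w hw => hw.1
  have hmem : ∀ w : R.VF (R.stab χ), w.1 ∈ R.stab χ := fun w => (R.mem_VF hle).1 w.2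
  choose! m hm using fun w (hw : w ∈ R.W) => C.exists_rep hw
  have key : ∀ w ∈ R.W, ∀ u ψ v, C.h χ * (u * C.h ψ * m w * v) * (C.h χ)⁻¹ =
      C.h χ * u * (C.h χ)⁻¹ * C.h (ψ * (χ * (act w⁻¹ χ)⁻¹)) * m w *
        (C.h χ * v * (C.h χ)⁻¹) := by
    intro w hw u ψ v
    rw [mul_comm ψ, mul_assoc χ, mul_comm _ ψ, map_mul, map_mul, map_inv, ← (hm w hw).h_conj]
    group
  let f : (Σ w : R.VF (R.stab χ), C.CU R.P χ × (Fin l → Fˣ) × C.CU (R.Inv w) χ) →
      {g : Γ // g ∈ C.grp ∧ C.h χ * g * (C.h χ)⁻¹ = g} := fun p =>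
    ⟨p.2.1.1 * C.h p.2.2.1 * m p.1 * p.2.2.2.1,
      mul_mem (mul_mem (mul_mem (C.U_le_grp p.2.1.2.1) (C.h_mem_grp _))
        (hm _ (hmem p.1).1).mem_grp) (C.U_le_grp (C.U_mono (Inv_sub_P _) p.2.2.2.2.1)), by
      rw [key _ (hmem p.1).1, p.2.1.2.2, p.2.2.2.2.2, (inv_mem (hmem p.1)).2]
      simp⟩
  have hcell : ∀ w ∈ R.W, ∀ u ∈ C.U R.P, ∀ ψ, ∀ v ∈ C.U (R.Inv w),
      u * C.h ψ * m w * v ∈ C.cell w := fun w hw u hu ψ v hv =>
    ⟨_, mul_mem (C.U_le_Bor hu) (C.h_mem_Bor ψ), _, hm w hw, v,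
      C.U_le_Bor (C.U_mono (Inv_sub_P _) hv), rfl⟩
  have hf : Function.Bijective f := by
    constructor
    · rintro ⟨w, u, ψ, v⟩ ⟨w', u', ψ', v'⟩ e
      have e := congrArg Subtype.val e
      simp only [f] at e
      have h1 : w = w' := Subtype.ext (cell_unique (hcell _ (hmem w).1 _ u.2.1 ψ _ v.2.1)
        (e ▸ hcell _ (hmem w').1 _ u'.2.1 ψ' _ v'.2.1))
      subst h1
      obtain ⟨h2, h3, h4⟩ := sharp_unique (hm _ (hmem w).1) u.2.1 u'.2.1 v.2.1 v'.2.1 e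
      rw [Subtype.ext h2, h3, Subtype.ext h4]
    · rintro ⟨g, hg, hc⟩
      obtain ⟨w, hw⟩ := exists_cell hg
      have hW := cell_mem_W hw
      obtain ⟨u, hu, ψ, v, hv, rfl⟩ := cell_sharp hw (hm w hW)
      rw [key w hW] at hc
      obtain ⟨h2, h3, h4⟩ := sharp_unique (hm _ hW) (C.h_conj_U χ (fun r => P_sub) hu) hu
        (C.h_conj_U χ (fun r hr => (R.mem_Inv.1 hr).1) hv) hv hc
      have h5 : w ∈ R.stab χ := by
        rw [← inv_mem_iff]
        exact ⟨inv_mem hW, (mul_inv_eq_one.1 (mul_eq_left.1 h3)).symm⟩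
      exact ⟨⟨⟨w, (R.mem_VF hle).2 h5⟩, ⟨u, hu, h2⟩, ψ, ⟨v, hv, h4⟩⟩, rfl⟩
  have hq : 0 < Fintype.card F := Fintype.card_pos
  haveI : Finite (C.CU R.P χ) := Nat.finite_of_card_ne_zero (by rw [card_CU_P]; positivity)
  haveI : ∀ w : R.VF (R.stab χ), Finite (C.CU (R.Inv w) χ) := fun w =>
    Nat.finite_of_card_ne_zero (by rw [C.card_CU (hmem w).1]; positivity)
  rw [← Nat.card_eq_of_bijective f hf, Nat.card_sigma, RS.PS, Finset.mul_sum,
    ← Finset.sum_coe_sort (R.VF (R.stab χ))]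
  refine Finset.sum_congr rfl fun w _ => ?_
  rw [Nat.card_prod, Nat.card_prod, card_CU_P, C.card_CU (hmem w).1, cnt_eq χ (hmem w).1,
    Nat.card_fun, Nat.card_units, Nat.card_eq_fintype_card, Nat.card_eq_fintype_card,
    Fintype.card_fin, mul_assoc]

end Rel

end Cfsg.Agent.ChevB
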