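import Cfsg.Agent.Lib.ChevB.G2

/-! The homomorphisms `SL(2, F) → G`. -/

set_option autoImplicit false

namespace Cfsg.Agent.ChevB

open Matrix MatrixGroups

/-- rank one relations -/
structure Rk1 (F : Type*) [Field F] (G : Type*) [Group G] where
  x : F → G
  h : Fˣ →* G
  n : G
  x_add : ∀ t u, x (t + u) = x t * x u
  h_x : ∀ d t, h d * x t * (h d)⁻¹ = x ((d : F) ^ 2 * t)
  n_h : ∀ d, n * h d * n⁻¹ = h d⁻¹
  n_sq : n * n = h (-1)
  n_x : ∀ τ : Fˣ, x τ * (n * x (τ⁻¹ : Fˣ) * n⁻¹) * x τ = h τ * n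

namespace Rk1

variable {F : Type*} [Field F] {G G' : Type*} [Group G] [Group G']

/-- product -/
def prod (K : Rk1 F G) (K' : Rk1 F G') : Rk1 F (G × G') where
  x t := (K.x t, K'.x t)
  h := K.h.prod K'.h
  n := (K.n, K'.n)
  x_add t u := Prod.ext (K.x_add t u) (K'.x_add t u)
  h_x d t := Prod.ext (K.h_x d t) (K'.h_x d t)
  n_h d := Prod.ext (K.n_h d) (K'.n_h d)
  n_sq := Prod.ext K.n_sq K'.n_sq
  n_x τ := Prod.ext (K.n_x τ) (K'.n_x τ)

variable (K : Rk1 F G)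

theorem x_zero : K.x 0 = 1 := by
  have := K.x_add 0 0
  rw [add_zero] at this
  exact left_eq_mul.1 this

theorem x_neg (t : F) : K.x (-t) = (K.x t)⁻¹ := by
  rw [eq_inv_iff_mul_eq_one, ← K.x_add, neg_add_cancel, K.x_zero]

/-- Bruhat normal forms -/
def Z (g : G) : Prop := (∃ d t, g = K.h d * K.x t) ∨ ∃ s d t, g = K.x s * K.h d * K.n * K.x t

theorem hx (d : Fˣ) (t : F) : K.h d * K.x t = K.x ((d : F) ^ 2 * t) * K.h d := by
  rw [← K.h_x]; group

theorem xh (d : Fˣ) (t : F) : K.x t * K.h d = K.h d * K.x (((d⁻¹ : Fˣ) : F) ^ 2 * t) := by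
  rw [← K.h_x, map_inv]; group

theorem nh (d : Fˣ) : K.n * K.h d = K.h d⁻¹ * K.n := by rw [← K.n_h]; group

theorem Z_x {g : G} (hg : K.Z g) (u : F) : K.Z (K.x u * g) := by
  rcases hg with ⟨d, t, rfl⟩ | ⟨s, d, t, rfl⟩
  · exact Or.inl ⟨d, _, by rw [← mul_assoc, xh, mul_assoc, ← K.x_add]⟩
  · exact Or.inr ⟨u + s, d, t, by rw [K.x_add]; group⟩

theorem Z_h {g : G} (hg : K.Z g) (e : Fˣ) : K.Z (K.h e * g) := by
  rcases hg with ⟨d, t, rfl⟩ | ⟨s, d, t, rfl⟩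
  · exact Or.inl ⟨e * d, t, by rw [map_mul, mul_assoc]⟩
  · exact Or.inr ⟨(e : F) ^ 2 * s, e * d, t, by rw [map_mul, ← K.h_x]; group⟩

theorem Z_n {g : G} (hg : K.Z g) : K.Z (K.n * g) := by
  rcases hg with ⟨d, t, rfl⟩ | ⟨s, d, t, rfl⟩
  · exact Or.inr ⟨0, d⁻¹, t, by rw [x_zero, one_mul, ← nh, mul_assoc]⟩
  · have e : K.n * K.h d * K.n = K.h (d⁻¹ * -1) := by rw [nh, mul_assoc, K.n_sq, map_mul]
    by_cases hs : s = 0
    · refine Or.inl ⟨d⁻¹ * -1, t, ?_⟩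
      rw [hs, x_zero, ← e]; group
    · have h1 := K.n_x (Units.mk0 s hs)⁻¹
      rw [inv_inv, Units.val_mk0] at h1
      set τ := (Units.mk0 s hs)⁻¹
      have h2 : K.n * (K.x s * K.h d * K.n * K.x t) =
          K.x (-τ) * (K.h τ * (K.n * (K.x (-τ) * (K.h (d⁻¹ * -1) * K.x t)))) := by
        rw [← mul_assoc (K.h τ), ← h1, ← e, x_neg]; group
      rw [h2]
      refine K.Z_x (K.Z_h ?_ _) _
      rw [← mul_assoc (K.x _), xh, mul_assoc, ← K.x_add, ← mul_assoc, nh]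
      exact Or.inr ⟨0, (d⁻¹ * -1)⁻¹, (((d⁻¹ * -1)⁻¹ : Fˣ) : F) ^ 2 * -(τ : F) + t,
        by rw [K.x_zero, one_mul]⟩

/-- generated subgroup -/
def gen : Subgroup G := Subgroup.closure (Set.range K.x ∪ Set.range K.h ∪ {K.n})

theorem x_mem (t : F) : K.x t ∈ K.gen := Subgroup.subset_closure (Or.inl (Or.inl ⟨t, rfl⟩))
theorem h_mem (d : Fˣ) : K.h d ∈ K.gen := Subgroup.subset_closure (Or.inl (Or.inr ⟨d, rfl⟩))
theorem n_mem : K.n ∈ K.gen := Subgroup.subset_closure (Or.inr rfl)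

theorem Z_of_mem {g : G} (hg : g ∈ K.gen) : K.Z g := by
  induction hg using Subgroup.closure_induction_left with
  | one => exact Or.inl ⟨1, 0, by simp [x_zero]⟩
  | mul_left x hx y _ ih =>
    rcases hx with (⟨t, rfl⟩ | ⟨d, rfl⟩) | rfl
    exacts [K.Z_x ih t, K.Z_h ih d, K.Z_n ih]
  | inv_mul_cancel x hx y _ ih =>
    rcases hx with (⟨t, rfl⟩ | ⟨d, rfl⟩) | rfl
    · rw [← x_neg]; exact K.Z_x ih _
    · rw [← map_inv]; exact K.Z_h ih _
    · have : K.n⁻¹ = K.h (-1)⁻¹ * K.n := by rw [map_inv, ← K.n_sq]; group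
      rw [this, mul_assoc]
      exact K.Z_h (K.Z_n ih) _

end Rk1

section SL2

variable {F : Type*} [Field F]

/-- upper elementary matrix -/
def e12 (t : F) : SL(2, F) := ⟨!![1, t; 0, 1], by simp [det_fin_two]⟩
/-- lower elementary matrix -/
def e21 (t : F) : SL(2, F) := ⟨!![1, 0; t, 1], by simp [det_fin_two]⟩
/-- diagonal matrix -/
def dg0 (d : Fˣ) : SL(2, F) := ⟨!![(d : F), 0; 0, (d : F)⁻¹], by simp [det_fin_two]⟩
/-- Weyl element -/
def jj (F : Type*) [Field F] : SL(2, F) := ⟨!![0, 1; -1, 0], by simp [det_fin_two]⟩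

theorem e12_coe (t : F) : (e12 t).1 = !![1, t; 0, 1] := rfl
theorem e21_coe (t : F) : (e21 t).1 = !![1, 0; t, 1] := rfl
theorem dg0_coe (d : Fˣ) : (dg0 d).1 = !![(d : F), 0; 0, (d : F)⁻¹] := rfl
theorem jj_coe : (jj F).1 = !![0, 1; -1, 0] := rfl
theorem sl_mul (g g' : SL(2, F)) : (g * g').1 = g.1 * g'.1 := rfl
theorem sl_one : (1 : SL(2, F)).1 = !![1, 0; 0, 1] := Matrix.one_fin_two
theorem sl_ext {g g' : SL(2, F)} (h : g.1 = g'.1) : g = g' := Subtype.ext h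

/-- diagonal matrices -/
def dg : Fˣ →* SL(2, F) where
  toFun := dg0
  map_one' := sl_ext (by rw [dg0_coe, sl_one]; simp)
  map_mul' d e := sl_ext (by simp [dg0_coe, sl_mul, mul_comm])

theorem dg_coe (d : Fˣ) : (dg d).1 = !![(d : F), 0; 0, (d : F)⁻¹] := rfl

theorem jj_e12 (t : F) : jj F * e12 t * (jj F)⁻¹ = e21 (-t) := by
  rw [mul_inv_eq_iff_eq_mul]
  exact sl_ext (by simp [sl_mul, jj_coe, e12_coe, e21_coe])

/-- the rank one structure of `SL(2, F)` -/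
def sl2 (F : Type*) [Field F] : Rk1 F SL(2, F) where
  x := e12
  h := dg
  n := jj F
  x_add t u := sl_ext (by simp [sl_mul, e12_coe, add_comm])
  h_x d t := by
    rw [mul_inv_eq_iff_eq_mul]
    refine sl_ext ?_
    simp [sl_mul, dg_coe, e12_coe]
    field_simp
  n_h d := by
    rw [mul_inv_eq_iff_eq_mul]
    exact sl_ext (by simp [sl_mul, jj_coe, dg_coe])
  n_sq := sl_ext (by simp [sl_mul, jj_coe, dg_coe])
  n_x τ := by
    rw [jj_e12]
    exact sl_ext (by simp [sl_mul, jj_coe, dg_coe, e12_coe, e21_coe])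

theorem sl2_form (g : SL(2, F)) : (sl2 F).Z g := by
  have hdet : g.1 0 0 * g.1 1 1 - g.1 0 1 * g.1 1 0 = 1 := by rw [← det_fin_two]; exact g.2
  by_cases hc : g.1 1 0 = 0
  · have ha : g.1 0 0 ≠ 0 := by
      intro h; rw [h, hc] at hdet; simp at hdet
    refine Or.inl ⟨Units.mk0 _ ha, g.1 0 1 / g.1 0 0, sl_ext ?_⟩
    change g.1 = (dg _ * e12 _).1
    rw [sl_mul, dg_coe, e12_coe]
    ext i j; fin_cases i <;> fin_cases j <;> simp [hc]
    · field_simp
    · rw [hc] at hdet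
      field_simp
      linear_combination hdet
  · refine Or.inr ⟨g.1 0 0 / g.1 1 0, -(Units.mk0 _ hc)⁻¹, g.1 1 1 / g.1 1 0, sl_ext ?_⟩
    change g.1 = (e12 _ * dg _ * jj F * e12 _).1
    rw [sl_mul, sl_mul, sl_mul, dg_coe, e12_coe, e12_coe, jj_coe]
    ext i j; fin_cases i <;> fin_cases j <;> simp [hc]
    · field_simp
      linear_combination -hdet
    · field_simp

theorem Rk1.exists_hom {G : Type*} [Group G] (K : Rk1 F G) : ∃ φ : SL(2, F) →* G,
    (∀ t, φ (e12 t) = K.x t) ∧ (∀ d, φ (dg d) = K.h d) ∧ φ (jj F) = K.n := by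
  let Δ := ((sl2 F).prod K).gen
  let p : Δ →* SL(2, F) := (MonoidHom.fst _ _).comp Δ.subtype
  have hp : Function.Bijective p := by
    constructor
    · rw [injective_iff_map_eq_one]
      rintro ⟨g, hg⟩ h
      change g.1 = 1 at h
      rcases Rk1.Z_of_mem _ hg with ⟨d, t, rfl⟩ | ⟨s, d, t, rfl⟩
      · change dg d * e12 t = 1 at h
        have h1 := congrArg (fun g : SL(2, F) => g.1 0 0) h
        have h2 := congrArg (fun g : SL(2, F) => g.1 0 1) h
        simp [sl_mul, dg_coe, e12_coe, sl_one] at h1 h2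
        apply Subtype.ext
        simp [h1, h2, Rk1.x_zero]
      · change e12 s * dg d * jj F * e12 t = 1 at h
        have h1 := congrArg (fun g : SL(2, F) => g.1 1 0) h
        simp [sl_mul, dg_coe, e12_coe, jj_coe, sl_one] at h1
    · intro g
      rcases sl2_form g with ⟨d, t, rfl⟩ | ⟨s, d, t, rfl⟩
      · exact ⟨⟨_, mul_mem (Rk1.h_mem _ d) (Rk1.x_mem _ t)⟩, rfl⟩
      · exact ⟨⟨_, mul_mem (mul_mem (mul_mem (Rk1.x_mem _ s) (Rk1.h_mem _ d)) (Rk1.n_mem _))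
          (Rk1.x_mem _ t)⟩, rfl⟩
  let e := MulEquiv.ofBijective p hp
  have key : ∀ g : Δ, (((MonoidHom.snd _ _).comp Δ.subtype).comp e.symm.toMonoidHom) g.1.1
      = g.1.2 := by
    intro g
    have : e.symm g.1.1 = g := e.symm_apply_apply g
    simp [this]
  exact ⟨_, fun t => key ⟨_, Rk1.x_mem _ t⟩, fun d => key ⟨_, Rk1.h_mem _ d⟩,
    key ⟨_, Rk1.n_mem _⟩⟩

end SL2

namespace Rel

variable {l : ℕ} {R : RS l} {F : Type*} [Field F] {Γ : Type*} [Group Γ] (C : Rel R F Γ)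

/-- the rank one structure at a simple root -/
def rk1 (i : Fin l) : Rk1 F Γ where
  x := C.x (R.a i)
  h := C.h.comp (MonoidHom.mulSingle (fun _ => Fˣ) i)
  n := C.n i
  x_add := C.x_add _ (R.a_mem i)
  h_x d t := by
    have := C.h_conj (Pi.mulSingle i d) _ (R.a_mem i) t
    rw [ev_mulSingle, R.a_self] at this
    simpa using this
  n_h d := by
    have := C.n_act i (Pi.mulSingle i d)
    rw [R.act_s_single] at this
    exact this
  n_sq := C.n_sq i
  n_x τ := by rw [C.n_self]; exact C.nt i τ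

theorem n_not_mem_Bor (i : Fin l) : C.n i ∉ C.Bor := by
  intro h
  have := R.s_a i
  rw [(C.rep_n i).eq_one_of_Bor h, RS.one_apply] at this
  exact R.not_pos_neg_a i (this ▸ R.pos_a i)

theorem exists_phi (i : Fin l) : ∃ φ : SL(2, F) →* Γ, Function.Injective φ ∧
    (∀ t, φ (e12 t) = C.x (R.a i) t) ∧ (∀ t, φ (e21 t) = C.x (-R.a i) t) ∧
    (∀ d, φ (dg d) = C.h (Pi.mulSingle i d)) ∧ φ.range = C.U {R.a i, -R.a i} := by
  obtain ⟨φ, h1, h2, h3⟩ := (C.rk1 i).exists_hom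
  change ∀ t, φ (e12 t) = C.x (R.a i) t at h1
  change ∀ d, φ (dg d) = C.h (Pi.mulSingle i d) at h2
  change φ (jj F) = C.n i at h3
  have h4 : ∀ t, φ (e21 t) = C.x (-R.a i) t := by
    intro t
    rw [← neg_neg t, ← jj_e12, map_mul, map_mul, map_inv, h1, h3, C.n_self]
  refine ⟨φ, ?_, h1, h4, h2, le_antisymm ?_ ?_⟩
  · rw [injective_iff_map_eq_one]
    intro g hg
    rcases sl2_form g with ⟨d, t, rfl⟩ | ⟨s, d, t, rfl⟩
    · change φ (dg d * e12 t) = 1 at hg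
      change dg d * e12 t = 1
      rw [map_mul, h1, h2] at hg
      have e : C.h (Pi.mulSingle i d) = (C.x (R.a i) t)⁻¹ := eq_inv_of_mul_eq_one_left hg
      have h5 := C.U_inter_H (e ▸ inv_mem (C.xa_mem_U i t))
      rw [h5, map_one, one_mul] at hg
      have h6 : d = 1 := by simpa using congrFun h5 i
      rw [h6, C.x_inj i t hg, map_one, one_mul]
      exact (sl2 F).x_zero
    · change φ (e12 s * dg d * jj F * e12 t) = 1 at hg
      rw [map_mul, map_mul, map_mul, h1, h1, h2, h3] at hg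
      exfalso
      refine C.n_not_mem_Bor i ?_
      have : C.n i = (C.x (R.a i) s * C.h (Pi.mulSingle i d))⁻¹ * (C.x (R.a i) t)⁻¹ := by
        rw [← mul_one (C.x (R.a i) s * C.h (Pi.mulSingle i d))⁻¹, ← hg]; group
      rw [this]
      exact mul_mem (inv_mem (mul_mem (C.U_le_Bor (C.xa_mem_U i s)) (C.h_mem_Bor _)))
        (inv_mem (C.U_le_Bor (C.xa_mem_U i t)))
  · have a1 : ∀ t, C.x (R.a i) t ∈ C.U {R.a i, -R.a i} := C.x_mem_U (by simp)
    have a2 : ∀ t, C.x (-R.a i) t ∈ C.U {R.a i, -R.a i} := C.x_mem_U (by simp)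
    have a3 : C.n i ∈ C.U {R.a i, -R.a i} := by
      rw [C.n_def]; exact mul_mem (mul_mem (a1 _) (a2 _)) (a1 _)
    have a4 : ∀ d, C.h (Pi.mulSingle i d) ∈ C.U {R.a i, -R.a i} := by
      intro d
      rw [← mul_inv_cancel_right (C.h _) (C.n i), ← C.nt]
      exact mul_mem (mul_mem (mul_mem (a1 _) (a2 _)) (a1 _)) (inv_mem a3)
    rintro _ ⟨g, rfl⟩
    rcases sl2_form g with ⟨d, t, rfl⟩ | ⟨s, d, t, rfl⟩
    · change φ (dg d * e12 t) ∈ _
      rw [map_mul, h1, h2]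
      exact mul_mem (a4 d) (a1 t)
    · change φ (e12 s * dg d * jj F * e12 t) ∈ _
      rw [map_mul, map_mul, map_mul, h1, h1, h2, h3]
      exact mul_mem (mul_mem (mul_mem (a1 s) (a4 d)) a3) (a1 t)
  · rw [U, Subgroup.closure_le]
    rintro _ ⟨r, hr, t, rfl⟩
    rcases Finset.mem_insert.1 hr with rfl | hr
    · exact ⟨_, h1 t⟩
    · rw [Finset.mem_singleton.1 hr]; exact ⟨_, h4 t⟩

end Rel

end Cfsg.Agent.ChevB
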