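import Cfsg.Agent.Lib.ChevB.G3
import Cfsg.Agent.Lib.ChevB.G4

/-! Involutions: reduction to `N`, length reductions, orthogonal roots. -/

set_option autoImplicit false

namespace Cfsg.Agent.ChevB

open Matrix MatrixGroups

theorem RS.len_inv {l : ℕ} (R : RS l) {w : A l} (hw : w ∈ R.W) : R.len w⁻¹ = R.len w := by
  have key : ∀ w ∈ R.W, R.len w ≤ R.len w⁻¹ := by
    intro w hw
    refine Finset.card_le_card_of_injOn (fun r => -w r) (fun r hr => ?_) ?_
    · obtain ⟨h1, h2, h3⟩ := R.mem_Inv.1 (Finset.mem_coe.1 hr)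
      have h4 := R.W_mem_Φ hw h1
      refine Finset.mem_coe.2 (R.mem_Inv.2 ⟨R.neg_mem _ h4, (R.pos_neg_iff h4).2 h3, ?_⟩)
      rw [map_neg, RS.inv_apply_apply, R.pos_neg_iff h1, not_not]; exact h2
    · intro r _ r' _ e
      exact w.injective (neg_injective e)
  have := key _ (inv_mem hw)
  rw [inv_inv] at this
  exact le_antisymm this (key w hw)

namespace Rel

variable {l : ℕ} {R : RS l} {F : Type*} [Field F] {Γ : Type*} [Group Γ] {C : Rel R F Γ}

/-- conjugacy inside the group -/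
def Cj (C : Rel R F Γ) (g g' : Γ) : Prop := ∃ y ∈ C.grp, y * g * y⁻¹ = g'

theorem Cj.trans {a b c : Γ} (h : C.Cj a b) (h' : C.Cj b c) : C.Cj a c := by
  obtain ⟨y, hy, rfl⟩ := h
  obtain ⟨z, hz, rfl⟩ := h'
  exact ⟨z * y, mul_mem hz hy, by group⟩

theorem Cj.sq {a b : Γ} (h : C.Cj a b) (ha : a * a = 1) : b * b = 1 := by
  obtain ⟨y, -, rfl⟩ := h
  calc _ = y * (a * a) * y⁻¹ := by group
    _ = 1 := by rw [ha]; group

theorem Cj.refl (a : Γ) : C.Cj a a := ⟨1, one_mem _, by simp⟩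

theorem Bor_le_grp {b : Γ} (hb : b ∈ C.Bor) : b ∈ C.grp := by
  obtain ⟨u, hu, χ, rfl⟩ := hb
  exact mul_mem (C.U_le_grp hu) (C.h_mem_grp χ)

theorem uh_pow {u : Γ} (hu : u ∈ C.U R.P) (ψ : Fin l → Fˣ) (k : ℕ) :
    ∃ u' ∈ C.U R.P, (u * C.h ψ) ^ k = u' * C.h (ψ ^ k) := by
  induction k with
  | zero => exact ⟨1, one_mem _, by simp⟩
  | succ k ih =>
    obtain ⟨u', hu', e⟩ := ih
    refine ⟨_, mul_mem hu' (C.h_conj_U (ψ ^ k) (fun r => P_sub) hu), ?_⟩
    rw [pow_succ, e, pow_succ, map_mul]; group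

theorem Rep.sq_one {m : Γ} {w : A l} (hm : C.Rep m w) (h : m * m = 1) : w * w = 1 :=
  cell_unique (hm.mul hm).mem_cell (h ▸ C.rep_one.mem_cell)

/-- an involution is conjugate into `N` inside its cell -/
theorem conj_N [Fintype F] (hF : Odd (Fintype.card F)) {t : Γ} {w : A l} (ht : t ∈ C.cell w)
    (h2 : t * t = 1) : ∃ m, C.Rep m w ∧ C.Cj t m := by
  obtain ⟨b, hb, m0, hm0, b', hb', rfl⟩ := ht
  obtain ⟨u, hu, χ, e⟩ := mul_mem hb' hb
  have hm : C.Rep (m0 * C.h χ) w := by simpa using hm0.mul (C.rep_h χ)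
  have hv := C.h_conj_U χ⁻¹ (fun r => P_sub) hu
  set m := m0 * C.h χ with hmdef
  set v := C.h χ⁻¹ * u * (C.h χ⁻¹)⁻¹ with hvdef
  have c1 : C.Cj (b * m0 * b') (m * v) := ⟨b⁻¹, inv_mem (Bor_le_grp hb), by
    calc _ = m0 * (b' * b) := by group
      _ = _ := by rw [e, hmdef, hvdef, map_inv]; group⟩
  have h3 := c1.sq h2
  have h4 : m * v ∈ C.cell w := cell_mul_Bor hm.mem_cell (C.U_le_Bor hv)
  have h5 : w⁻¹ = w := cell_unique (cell_inv h4) (by rwa [inv_eq_of_mul_eq_one_right h3])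
  have h6 := hm.mul hm
  rw [mul_eq_one_iff_inv_eq.2 h5] at h6
  obtain ⟨ψ, hψ⟩ := h6.eq_h
  have h7 : m * v * m⁻¹ = v⁻¹ * C.h ψ⁻¹ := by
    rw [map_inv, ← hψ]
    calc _ = (m * v * (m * v)) * v⁻¹ * (m * m)⁻¹ := by group
      _ = _ := by rw [h3]; group
  set k := Fintype.card F ^ R.P.card with hk
  have hvk : v ^ k = 1 := by
    have := pow_card_eq_one' (x := (⟨v, hv⟩ : C.U R.P))
    rw [C.card_U_P] at this
    exact congrArg Subtype.val this
  have h8 : ψ = 1 := by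
    obtain ⟨u', hu', e'⟩ := uh_pow (inv_mem hv) ψ⁻¹ k
    rw [← h7, conj_pow, hvk, mul_one, mul_inv_cancel] at e'
    have e1 : ψ⁻¹ ^ k = 1 := C.U_inter_H (by
      rw [eq_inv_of_mul_eq_one_right e'.symm]; exact inv_mem hu')
    have e2 : ψ⁻¹ ^ (Fintype.card F - 1) = 1 := by
      funext i
      classical
      rw [Pi.pow_apply, ← Fintype.card_units, pow_card_eq_one]; rfl
    have e3 : Nat.Coprime k (Fintype.card F - 1) := by
      refine Nat.Coprime.pow_left _ ?_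
      have : 1 ≤ Fintype.card F := Fintype.card_pos
      exact (Nat.coprime_self_sub_right this).2 (Nat.coprime_one_right _)
    have := pow_gcd_eq_one.2 ⟨e1, e2⟩
    rw [e3, pow_one] at this
    exact inv_eq_one.1 this
  rw [h8, inv_one, map_one, mul_one] at h7
  rw [h8, map_one] at hψ
  obtain ⟨j, hj⟩ : Odd k := hF.pow
  refine ⟨m, hm, c1.trans ⟨v ^ (j + 1), C.U_le_grp (pow_mem hv _), ?_⟩⟩
  have h9 : m * v ^ (j + 1) * m⁻¹ = (v ^ (j + 1))⁻¹ := by rw [← conj_pow, h7, inv_pow]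
  have h10 : v ^ (j + 1) * v ^ (j + 1) = v := by
    rw [← pow_add, show j + 1 + (j + 1) = k + 1 by omega, pow_succ, hvk, one_mul]
  have h11 : m⁻¹ = m := inv_eq_of_mul_eq_one_right hψ
  generalize v ^ (j + 1) = z at h9 h10 ⊢
  rw [← h10]
  calc z * (m * (z * z)) * z⁻¹ = z * (m * z * m⁻¹) * m := by group
    _ = m := by rw [h9]; group

theorem comm_s {w : A l} (hw : w ∈ R.W) {i : Fin l} (h : w (R.a i) = -R.a i) :
    R.s i * w = w * R.s i := by
  have := R.conj_s (mul_mem hw (R.s_mem i)) (i := i) (j := i) (by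
    rw [LinearEquiv.mul_apply, R.s_a, map_neg, h, neg_neg])
  rw [mul_assoc, R.s_mul_s, mul_one] at this
  conv_lhs => rw [this]
  rw [← mul_assoc, R.s_mul_s, one_mul]

theorem conj_back {m : Γ} (h2 : m * m = 1) {i : Fin l} {c : Fˣ}
    (hc : ∀ t, m * C.x (R.a i) t * m⁻¹ = C.x (-R.a i) (c * t)) (t : F) :
    m * C.x (-R.a i) t * m⁻¹ = C.x (R.a i) ((c⁻¹ : Fˣ) * t) := by
  have := hc ((c⁻¹ : Fˣ) * t)
  rw [← mul_assoc (c : F), Units.mul_inv, one_mul] at this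
  rw [← this]
  calc _ = (m * m) * C.x (R.a i) ((c⁻¹ : Fˣ) * t) * (m * m)⁻¹ := by group
    _ = _ := by rw [h2]; group

/-- square case: the length drops -/
theorem conj_sq {m : Γ} {w : A l} (hm : C.Rep m w) (h2 : m * m = 1) {i : Fin l}
    (hw : w (R.a i) = -R.a i) {c : Fˣ}
    (hc : ∀ t, m * C.x (R.a i) t * m⁻¹ = C.x (-R.a i) (c * t)) (hsq : IsSquare (c : F)) :
    ∃ g ∈ C.cell (w * R.s i), C.Cj m g := by
  obtain ⟨e, he⟩ := hsq
  have he0 : e ≠ 0 := by rintro rfl; simp at he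
  have h1 := C.nt i (Units.mk0 e he0)⁻¹
  have h3 := conj_back h2 hc e
  have h4 : ((c⁻¹ : Fˣ) : F) * e = e⁻¹ := by rw [Units.val_inv_eq_inv_val, he]; field_simp
  rw [h4] at h3
  simp only [inv_inv, Units.val_mk0, Units.val_inv_eq_inv_val] at h1
  refine ⟨(C.x (R.a i) e⁻¹)⁻¹ * (C.h (Pi.mulSingle i (Units.mk0 e he0)⁻¹) * (C.n i * m)), ?_,
    C.x (-R.a i) (-e), C.x_mem_grp (R.neg_mem _ (R.a_mem i)) _, ?_⟩
  · rw [← comm_s hm.mem_W hw]
    exact Bor_mul_cell (inv_mem (C.U_le_Bor (C.xa_mem_U i _)))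
      (Bor_mul_cell (C.h_mem_Bor _) ((C.rep_n i).mul hm).mem_cell)
  · rw [← mul_assoc (C.h _), ← h1, C.x_neg (R.neg_mem _ (R.a_mem i))]
    calc _ = (C.x (-R.a i) e)⁻¹ * (m * C.x (-R.a i) e * m⁻¹) * m := by group
      _ = _ := by rw [h3]; group

/-- nonsquare case: twist by a torus element -/
theorem conj_nsq [Fintype F] (hF : Odd (Fintype.card F)) {m : Γ} (h2 : m * m = 1) {i : Fin l}
    {c : Fˣ} (hc : ∀ t, m * C.x (R.a i) t * m⁻¹ = C.x (-R.a i) (c * t))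
    (hsq : ¬ IsSquare (c : F)) :
    ∃ e : Fˣ, C.Cj m (C.h (Pi.mulSingle i (c * (e * e)⁻¹)) * m) := by
  classical
  obtain ⟨α, ε, h⟩ := FiniteField.exists_root_sum_quadratic
    (f := Polynomial.X ^ 2) (g := Polynomial.X ^ 2 - Polynomial.C (c : F))
    (Polynomial.degree_X_pow 2) (Polynomial.degree_X_pow_sub_C (by norm_num) _)
    (Nat.odd_iff.1 hF)
  simp only [Polynomial.eval_pow, Polynomial.eval_X, Polynomial.eval_sub, Polynomial.eval_C] at h
  have hε : ε ≠ 0 := by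
    rintro rfl
    exact hsq ⟨α, by linear_combination -h⟩
  have hc0 : (c : F) ≠ 0 := c.ne_zero
  obtain ⟨φ, -, p1, p2, p3, -⟩ := C.exists_phi i
  refine ⟨Units.mk0 ε hε, (C.x (-R.a i) α * C.x (R.a i) (α / ε ^ 2))⁻¹,
    inv_mem (mul_mem (C.x_mem_grp (R.neg_mem _ (R.a_mem i)) _) (C.x_mem_grp (R.a_mem i) _)), ?_⟩
  have e1 : e12 (-(α / ε ^ 2)) * e21 (-α) * e12 ((c⁻¹ : Fˣ) * α) * e21 (c * (α / ε ^ 2)) =
      dg (c * (Units.mk0 ε hε * Units.mk0 ε hε)⁻¹) := by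
    refine sl_ext ?_
    simp only [sl_mul, e12_coe, e21_coe, dg_coe]
    have hcc : (c : F) = α ^ 2 + ε ^ 2 := by linear_combination -h
    ext i j; fin_cases i <;> fin_cases j <;> simp <;> field_simp <;> rw [hcc] <;> ring
  rw [← p3, ← e1, map_mul, map_mul, map_mul, p1, p1, p2, p2, ← hc, ← conj_back h2 hc,
    C.x_neg (R.a_mem i), C.x_neg (R.neg_mem _ (R.a_mem i))]
  group

/-- root subgroups of strongly orthogonal roots commute -/
theorem commute_orth (C : Rel R F Γ) {i : Fin l} {r : X l} (hr : r ∈ R.Φ) (hp : R.pos r)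
    (h0 : r i = 0) (hno : ∀ p q : ℕ, 0 < p → 0 < q → (p : ℤ) • R.a i + (q : ℤ) • r ∉ R.Φ) :
    ∀ a ∈ C.U {R.a i, -R.a i}, ∀ b ∈ C.U {r, -r}, Commute a b := by
  have hne : r ≠ R.a i := by rintro rfl; rw [R.a_self] at h0; omega
  have h1 : ∀ t u, Commute (C.x (R.a i) t) (C.x r u) := by
    intro t u
    have := C.comm i r hr hp hne t u
    have e : {g | ∃ k ∈ R.Φ, ∃ p q : ℕ, 0 < p ∧ 0 < q ∧
        k = (p : ℤ) • R.a i + (q : ℤ) • r ∧ ∃ v, g = C.x k v} = ∅ := by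
      ext g
      simp only [Set.mem_setOf_eq, Set.mem_empty_iff_false, iff_false]
      rintro ⟨k, hk, p, q, hp, hq, rfl, -⟩
      exact hno p q hp hq hk
    rw [e, Subgroup.closure_empty, Subgroup.mem_bot] at this
    exact commutatorElement_eq_one_iff_commute.1 this
  have tr : ∀ {m : Γ} {w : A l}, C.Rep m w → ∀ {r r' : X l}, r ∈ R.Φ → r' ∈ R.Φ →
      (∀ t u, Commute (C.x r t) (C.x r' u)) → ∀ t u, Commute (C.x (w r) t) (C.x (w r') u) := by
    intro m w hm r r' hr hr' h t u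
    obtain ⟨c, hc⟩ := hm.x_conj hr
    obtain ⟨c', hc'⟩ := hm.x_conj hr'
    have e1 := hc ((c⁻¹ : Fˣ) * t)
    have e2 := hc' ((c'⁻¹ : Fˣ) * u)
    rw [← mul_assoc (c : F), Units.mul_inv, one_mul] at e1
    rw [← mul_assoc (c' : F), Units.mul_inv, one_mul] at e2
    rw [← e1, ← e2]
    exact (h _ _).conj m
  have hs : R.s i r = r := by rw [R.s_apply, h0]; simp
  have h2 : ∀ t u, Commute (C.x (-R.a i) t) (C.x r u) := by
    have := tr (C.rep_n i) (R.a_mem i) hr h1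
    rwa [R.s_a, hs] at this
  obtain ⟨g, hg, hgr⟩ := R.exists_refl hr
  obtain ⟨m, hm⟩ := C.exists_rep hg
  have hB := (R.B_self_pos hr).ne'
  have g1 : g r = -r := by
    obtain ⟨k, e1, e2⟩ := hgr r
    rw [e2, mul_right_cancel₀ hB e1, two_smul]; abel
  have g2 : g (R.a i) = R.a i := by
    obtain ⟨k, e1, e2⟩ := hgr (R.a i)
    rw [R.B_symm (R.a i), R.B_a, h0, mul_zero, mul_zero, mul_eq_zero] at e1
    rw [e2, e1.resolve_right hB]; simp
  have h3 := tr hm (R.a_mem i) hr h1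
  have h4 := tr hm (R.neg_mem _ (R.a_mem i)) hr h2
  rw [g1, g2] at h3
  rw [g1, map_neg, g2] at h4
  intro a ha b hb
  have : C.U {R.a i, -R.a i} ≤ Subgroup.centralizer (C.U {r, -r} : Set Γ) := by
    rw [U, Subgroup.closure_le]
    rintro _ ⟨k, hk, t, rfl⟩
    rw [SetLike.mem_coe, U, Subgroup.centralizer_closure, Subgroup.mem_centralizer_iff]
    rintro _ ⟨k', hk', u, rfl⟩
    simp only [Finset.mem_insert, Finset.mem_singleton] at hk hk'
    rcases hk with rfl | rfl <;> rcases hk' with rfl | rfl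
    exacts [(h1 t u).symm, (h3 t u).symm, (h2 t u).symm, (h4 t u).symm]
  exact (this ha b hb).symm

theorem n_mem_L (C : Rel R F Γ) (i : Fin l) : C.n i ∈ C.U {R.a i, -R.a i} := by
  rw [C.n_def]
  exact mul_mem (mul_mem (C.x_mem_U (by simp) _) (C.x_mem_U (by simp) _)) (C.x_mem_U (by simp) _)

theorem commute_simple (C : Rel R F Γ) {i j : Fin l} (h : R.a j i = 0) :
    ∀ a ∈ C.U {R.a i, -R.a i}, ∀ b ∈ C.U {R.a j, -R.a j}, Commute a b := by
  refine C.commute_orth (R.a_mem j) (R.pos_a j) h fun p q hp hq hk => ?_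
  have hij : i ≠ j := by rintro rfl; rw [R.a_self] at h; omega
  have h1 := R.s_mem_Φ i hk
  rw [map_add, map_zsmul, map_zsmul, R.s_a, R.s_apply, h, zero_smul, sub_zero] at h1
  have e : ∀ k, R.c ((p : ℤ) • -R.a i + (q : ℤ) • R.a j) k =
      -p * (Pi.single i 1 : X l) k + q * (Pi.single j 1 : X l) k := by
    intro k
    rw [map_add, map_zsmul, map_zsmul, map_neg, R.c_a, R.c_a]
    simp
  rcases R.pos_or_neg _ h1 with h2 | h2
  · have := h2 i
    rw [e] at this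
    simp [hij] at this
    omega
  · have := h2 j
    rw [e] at this
    simp [hij.symm] at this
    omega

end Rel

end Cfsg.Agent.ChevB
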