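import Cfsg.Agent.Lib.ChevB.G5

/-! Every involution is conjugate into the torus. -/

set_option autoImplicit false

namespace Cfsg.Agent.ChevB

namespace RS

variable {l : ℕ} (R : RS l)

theorem orth_symm {i j : Fin l} (h : R.a i j = 0) : R.a j i = 0 := by
  have := R.symm i j
  rw [h, mul_zero, eq_comm, mul_eq_zero] at this
  exact this.resolve_left (R.d_pos i).ne'

theorem sw_fix {L : List (Fin l)} {μ : X l} (h : ∀ j ∈ L, μ j = 0) : R.sw L μ = μ := by
  induction L with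
  | nil => rfl
  | cons j L ih =>
    rw [sw_cons, LinearEquiv.mul_apply, ih fun k hk => h k (List.mem_cons_of_mem _ hk), s_apply,
      h j List.mem_cons_self]
    simp

theorem sw_neg {L : List (Fin l)} (hL : L.Pairwise fun i j => R.a i j = 0) {k : Fin l}
    (hk : k ∈ L) : R.sw L (R.a k) = -R.a k := by
  induction L with
  | nil => simp at hk
  | cons j L ih =>
    rw [List.pairwise_cons] at hL
    rw [sw_cons, LinearEquiv.mul_apply]
    rcases List.mem_cons.1 hk with rfl | hk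
    · rw [R.sw_fix hL.1, s_a]
    · rw [ih hL.2 hk, map_neg, s_apply, R.orth_symm (hL.1 k hk)]; simp

theorem c_sw {L : List (Fin l)} (μ : X l) {k : Fin l} (hk : k ∉ L) :
    R.c (R.sw L μ) k = R.c μ k := by
  induction L with
  | nil => rfl
  | cons j L ih =>
    rw [List.mem_cons, not_or] at hk
    rw [sw_cons, LinearEquiv.mul_apply, R.c_s j k _ hk.1, ih hk.2]

/-- an involution negating the orthogonal set of its descents is the product of them -/
theorem eq_sw {w : A l} (hw : w ∈ R.W) (h2 : w * w = 1) {L : List (Fin l)}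
    (hL : L.Pairwise fun i j => R.a i j = 0) (h1 : ∀ i ∈ L, w (R.a i) = -R.a i)
    (h3 : ∀ i, i ∉ L → R.pos (w (R.a i))) : w = R.sw L := by
  have hQ : ∀ μ, (∀ k, k ∉ L → R.c μ k = 0) → w μ = -μ := by
    intro μ h
    rw [R.apply_eq_sum w]
    conv_rhs => rw [← R.a_c μ, ← Finset.sum_neg_distrib]
    refine Finset.sum_congr rfl fun k _ => ?_
    by_cases hk : k ∈ L
    · rw [h1 k hk, smul_neg]
    · rw [h k hk]; simp
  have : w * R.sw L = 1 := by
    refine R.eq_one_of_pos (mul_mem hw (R.sw_mem L)) fun k => ?_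
    rw [LinearEquiv.mul_apply]
    by_cases hk : k ∈ L
    · rw [R.sw_neg hL hk, map_neg, h1 k hk, neg_neg]; exact R.pos_a k
    · have e := hQ (R.sw L (R.a k) - R.a k) fun j hj => by
        rw [map_sub, Pi.sub_apply, R.c_sw _ hj, sub_self]
      have : ∃ j, j ∉ L ∧ 0 < R.c (w (R.a k)) j := by
        by_contra hc
        push Not at hc
        have e1 := hQ (w (R.a k)) fun j hj => le_antisymm (hc j hj) (h3 k hk j)
        rw [← LinearEquiv.mul_apply, h2, one_apply] at e1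
        have e2 := hc k hk
        have e3 := h3 k hk k
        have e4 := congrFun (congrArg R.c e1) k
        rw [R.c_a, map_neg] at e4
        simp only [Pi.single_eq_same, Pi.neg_apply, Pi.zero_apply] at e3 e4
        omega
      obtain ⟨j, hj, h4⟩ := this
      refine R.pos_of_coord (R.W_mem_Φ hw (R.W_mem_Φ (R.sw_mem L) (R.a_mem k))) (j := j) ?_
      rw [map_sub, sub_eq_iff_eq_add] at e
      rw [e, map_add, map_neg, map_sub, Pi.add_apply, Pi.neg_apply, Pi.sub_apply, R.c_sw _ hj]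
      omega
  rw [← mul_left_cancel_iff (a := w), h2, this]

end RS

namespace Rel

variable {l : ℕ} {R : RS l} {F : Type*} [Field F] {Γ : Type*} [Group Γ] {C : Rel R F Γ}

theorem nw_commute {L : List (Fin l)} {i : Fin l} (h : ∀ j ∈ L, R.a i j = 0) {a : Γ}
    (ha : a ∈ C.U {R.a i, -R.a i}) : Commute (C.nw L) a := by
  induction L with
  | nil => exact Commute.one_left _
  | cons j L ih =>
    rw [nw_cons]
    exact (C.commute_simple (h j List.mem_cons_self) _ (C.n_mem_L j) _ ha).mul_left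
      (ih fun k hk => h k (List.mem_cons_of_mem _ hk))

theorem nw_sq {L : List (Fin l)} (hL : L.Pairwise fun i j => R.a i j = 0) :
    ∃ ψ, C.nw L * C.nw L = C.h ψ ∧ ∀ i, i ∉ L → ψ i = 1 := by
  induction L with
  | nil => exact ⟨1, by simp [nw], fun _ _ => rfl⟩
  | cons j L ih =>
    rw [List.pairwise_cons] at hL
    obtain ⟨ψ, h1, h2⟩ := ih hL.2
    refine ⟨Pi.mulSingle j (-1) * ψ, ?_, fun i hi => ?_⟩
    · have := (nw_commute hL.1 (C.n_mem_L j)).eq
      rw [nw_cons, map_mul, ← h1, ← C.n_sq]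
      calc _ = C.n j * (C.nw L * C.n j) * C.nw L := by group
        _ = _ := by rw [this]; group
    · rw [List.mem_cons, not_or] at hi
      simp [h2 i hi.2, hi.1]

/-- the simply connected case -/
theorem sq_of_orth {m : Γ} {i : Fin l} {L : List (Fin l)}
    (hL : (i :: L).Pairwise fun i j => R.a i j = 0) (hm : C.Rep m (R.sw (i :: L)))
    (h2 : m * m = 1) {c : Fˣ} (hc : ∀ t, m * C.x (R.a i) t * m⁻¹ = C.x (-R.a i) (c * t)) :
    IsSquare (c : F) := by
  obtain ⟨χ, rfl⟩ := (rep_nw (i :: L)).unique hm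
  have hL' := List.pairwise_cons.1 hL
  have hiL : i ∉ L := fun h => by have := hL'.1 i h; rw [R.a_self] at this; omega
  obtain ⟨ψ, h3, h4⟩ := nw_sq (C := C) hL'.2
  have h5 := (nw_commute hL'.1 (C.n_mem_L i)).eq
  have h6 := (rep_nw (C := C) (i :: L)).h_conj' χ
  have h7 : C.h (act (R.sw (i :: L)) χ * χ * (Pi.mulSingle i (-1) * ψ)) = 1 := by
    rw [map_mul, map_mul, map_mul, ← h6, ← h3, ← C.n_sq]
    calc _ = (C.nw (i :: L))⁻¹ * (C.h χ * C.nw (i :: L) * (C.h χ * (C.n i * C.n i *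
        (C.nw L * C.nw L)))) := by group
      _ = (C.nw (i :: L))⁻¹ * (C.h χ * C.nw (i :: L) * (C.h χ * C.nw (i :: L))) *
        C.nw (i :: L) := by
          rw [mul_assoc (C.n i), ← mul_assoc (C.n i) (C.nw L), ← h5, nw_cons]; group
      _ = 1 := by rw [h2]; group
  have h8 := congrFun (C.h_inj (h7.trans (map_one C.h).symm)) i
  have h9 : R.sw (i :: L) (Pi.single i 1) = Pi.single i 1 - R.a i := by
    rw [RS.sw_cons, LinearEquiv.mul_apply, R.sw_fix, R.s_apply]
    · simp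
    · intro j hj
      exact Pi.single_eq_of_ne (by rintro rfl; exact hiL hj) _
  simp only [Pi.mul_apply, act, h9, ev_sub, ev_single, Pi.mulSingle_eq_same, h4 i hiL,
    Pi.one_apply] at h8
  have h10 := hc 1
  have h11 := (nw_commute hL'.1 (C.x_mem_U (S := {R.a i, -R.a i}) (r := R.a i) (by simp) 1)).eq
  have h12 : C.h χ * C.nw (i :: L) * C.x (R.a i) 1 * (C.h χ * C.nw (i :: L))⁻¹ =
      C.x (-R.a i) (ev χ (-R.a i) * -1) := by
    rw [← C.h_conj _ _ (R.neg_mem _ (R.a_mem i)), ← C.n_self, nw_cons]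
    calc _ = C.h χ * (C.n i * (C.nw L * C.x (R.a i) 1) * (C.nw L)⁻¹ * (C.n i)⁻¹) *
      (C.h χ)⁻¹ := by group
      _ = _ := by rw [h11]; group
  rw [h12, ← mul_inv_eq_one, ← C.x_neg (R.neg_mem _ (R.a_mem i)),
    ← C.x_add _ (R.neg_mem _ (R.a_mem i))] at h10
  have h13 := C.x_eq_one (R.neg_mem _ (R.a_mem i)) h10
  have h14 := congrArg Units.val h8
  rw [ev_neg] at h13
  simp only [Units.val_mul, Units.val_neg, Units.val_one] at h14
  refine ⟨((χ i)⁻¹ : Fˣ), ?_⟩
  have h15 : ((χ i)⁻¹ : Fˣ) * (χ i : F) = 1 := Units.inv_mul _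
  generalize (((χ i)⁻¹ : Fˣ) : F) = z at h15 ⊢
  generalize (((ev χ (R.a i))⁻¹ : Fˣ) : F) = y at h13 h14
  linear_combination (-1 : F) * h13 + z ^ 2 * h14 + (y * (z * (χ i : F) + 1)) * h15

theorem isSquare_mul [Fintype F] {a b : F} (ha : ¬ IsSquare a) (hb : ¬ IsSquare b) :
    IsSquare (a * b) := by
  classical
  have ha0 : a ≠ 0 := by rintro rfl; simp at ha
  have hb0 : b ≠ 0 := by rintro rfl; simp at hb
  rw [← quadraticChar_one_iff_isSquare (mul_ne_zero ha0 hb0), map_mul,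
    quadraticChar_neg_one_iff_not_isSquare.2 ha, quadraticChar_neg_one_iff_not_isSquare.2 hb]
  simp

theorem conj_H [Fintype F] (hF : Odd (Fintype.card F)) {t : Γ} (ht : t ∈ C.grp)
    (h2 : t * t = 1) : ∃ χ, C.Cj t (C.h χ) := by
  classical
  obtain ⟨w, hw⟩ := exists_cell ht
  clear ht
  induction hk : R.len w using Nat.strong_induction_on generalizing w t with
  | _ k ih =>
  obtain ⟨m, hm, c1⟩ := conj_N hF hw h2
  have hm2 := c1.sq h2
  have hW := hm.mem_W
  have hw2 := hm.sq_one hm2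
  have fin : ∀ w', R.len w' < R.len w → ∀ g ∈ C.cell w', C.Cj t g → ∃ χ, C.Cj t (C.h χ) := by
    intro w' hl g hg c
    obtain ⟨χ, c'⟩ := ih _ (hk ▸ hl) (c.sq h2) w' hg rfl
    exact ⟨χ, c.trans c'⟩
  by_cases hA : ∃ i, ¬ R.pos (w (R.a i)) ∧ w (R.a i) ≠ -R.a i
  · obtain ⟨i, h3, h4⟩ := hA
    refine fin (R.s i * w * R.s i) ?_ (C.n i * m * (C.n i)⁻¹)
      (((C.rep_n i).mul hm).mul (rep_n_inv i)).mem_cell (c1.trans ⟨_, C.n_mem_grp i, rfl⟩)
    have h5 := R.W_mem_Φ hW (R.a_mem i)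
    have h6 : ¬ R.pos ((R.s i * w) (R.a i)) := by
      have := R.s_pos (i := i) (R.neg_mem _ h5) ((R.pos_neg_iff h5).2 h3)
        (fun h => h4 (neg_eq_iff_eq_neg.1 h))
      rwa [map_neg, R.pos_neg_iff (R.s_mem_Φ i h5)] at this
    have h7 := R.len_mul_s_of_neg (mul_mem (R.s_mem i) hW) h6
    have h8 := R.len_inv (mul_mem hW (R.s_mem i))
    rw [mul_inv_rev, R.s_inv, inv_eq_of_mul_eq_one_right hw2] at h8
    have h9 := R.len_mul_s_of_neg hW h3
    omega
  push Not at hA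
  have hsq : ∀ i, ¬ R.pos (w (R.a i)) → ∀ m', C.Rep m' w → C.Cj t m' → ∀ c : Fˣ,
      (∀ t, m' * C.x (R.a i) t * m'⁻¹ = C.x (-R.a i) (c * t)) → IsSquare (c : F) →
      ∃ χ, C.Cj t (C.h χ) := by
    intro i hi m' hm' c2 c hc hs
    obtain ⟨g, hg, c3⟩ := conj_sq hm' (c2.sq h2) (hA i hi) hc hs
    exact fin _ (by rw [R.len_mul_s_of_neg hW hi]; omega) g hg (c2.trans c3)
  have hc : ∀ i, ¬ R.pos (w (R.a i)) → ∃ c : Fˣ,
      ∀ t, m * C.x (R.a i) t * m⁻¹ = C.x (-R.a i) (c * t) := by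
    intro i hi
    have := hm.x_conj (R.a_mem i)
    rwa [hA i hi] at this
  by_cases hB : ∃ i j, ¬ R.pos (w (R.a i)) ∧ ¬ R.pos (w (R.a j)) ∧ Odd (R.a j i)
  · obtain ⟨i, j, hi, hj, k, ho⟩ := hB
    obtain ⟨c, h3⟩ := hc i hi
    obtain ⟨c', h4⟩ := hc j hj
    by_cases s1 : IsSquare (c : F)
    · exact hsq i hi m hm c1 c h3 s1
    by_cases s2 : IsSquare (c' : F)
    · exact hsq j hj m hm c1 c' h4 s2
    obtain ⟨e, c2⟩ := conj_nsq hF hm2 h3 s1
    set d := c * (e * e)⁻¹ with hd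
    refine hsq j hj _ (by simpa using (C.rep_h _).mul hm) (c1.trans c2)
      (ev (Pi.mulSingle i d) (-R.a j) * c') (fun t => ?_) ?_
    · rw [Units.val_mul, mul_assoc _ (c' : F), ← C.h_conj _ _ (R.neg_mem _ (R.a_mem j)), ← h4]
      group
    · have e1 : ev (Pi.mulSingle i d) (-R.a j) * c' =
          c * c' * ((e⁻¹ * d ^ (-k - 1)) * (e⁻¹ * d ^ (-k - 1))) := by
        rw [ev_mulSingle, Pi.neg_apply, ho, show -(2 * k + 1) = 1 + (-k - 1) + (-k - 1) by ring,
          zpow_add, zpow_add, zpow_one]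
        generalize d ^ (-k - 1) = z
        rw [hd, mul_inv]
        simp only [mul_comm, mul_left_comm, mul_assoc]
      rw [e1, Units.val_mul, Units.val_mul, Units.val_mul (_ * _)]
      exact (isSquare_mul s1 s2).mul ⟨_, rfl⟩
  push Not at hB
  by_cases hC : ∀ i, R.pos (w (R.a i))
  · rw [R.eq_one_of_pos hW hC] at hm
    obtain ⟨χ, rfl⟩ := hm.eq_h
    exact ⟨χ, c1⟩
  push Not at hC
  obtain ⟨i, hi⟩ := hC
  let L := ((Finset.univ.filter fun j => ¬ R.pos (w (R.a j))).erase i).toList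
  have hmem : ∀ j, j ∈ i :: L ↔ ¬ R.pos (w (R.a j)) := by
    intro j
    simp only [L, List.mem_cons, Finset.mem_toList, Finset.mem_erase, Finset.mem_filter,
      Finset.mem_univ, true_and]
    by_cases h : j = i
    · simp [h, hi]
    · simp [h]
  have hnd : (i :: L).Nodup := List.nodup_cons.2 ⟨by simp [L], Finset.nodup_toList _⟩
  have hL : (i :: L).Pairwise fun i j => R.a i j = 0 := by
    refine List.Pairwise.imp_of_mem (fun {a b} ha hb hne => ?_) hnd
    rw [hmem] at ha hb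
    exact R.parity a b hne (Int.not_odd_iff_even.1 (hB b a hb ha))
      (Int.not_odd_iff_even.1 (hB a b ha hb))
  have e := R.eq_sw hW hw2 hL (fun j hj => hA j ((hmem j).1 hj))
    (fun j hj => by rwa [hmem, not_not] at hj)
  obtain ⟨c, h3⟩ := hc i hi
  exact hsq i hi m hm c1 c h3 (sq_of_orth hL (e ▸ hm) hm2 h3)

end Rel

end Cfsg.Agent.ChevB
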