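import Cfsg.Agent.Lib.ChevB.Ax

/-! Weyl group of an `RS`: simple reflections, inversion sets, length, exchange. -/

set_option autoImplicit false

namespace Cfsg.Agent.ChevB

/-- the weight lattice -/
abbrev X (l : ℕ) : Type := Fin l → ℤ

/-- its automorphisms -/
abbrev A (l : ℕ) : Type := X l ≃ₗ[ℤ] X l

namespace RS

variable {l : ℕ} (R : RS l)

theorem sf_sf (i : Fin l) (μ : X l) : R.sf i (R.sf i μ) = μ := by
  ext j
  simp only [sf, Pi.sub_apply, Pi.smul_apply, smul_eq_mul, R.a_self]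
  ring

/-- simple reflection -/
def s (i : Fin l) : A l where
  toFun := R.sf i
  invFun := R.sf i
  left_inv := R.sf_sf i
  right_inv := R.sf_sf i
  map_add' μ ν := by
    ext j
    simp only [sf, Pi.sub_apply, Pi.smul_apply, smul_eq_mul, Pi.add_apply]
    ring
  map_smul' k μ := by
    ext j
    simp only [sf, Pi.sub_apply, Pi.smul_apply, smul_eq_mul, RingHom.id_apply]
    ring

theorem s_apply (i : Fin l) (μ : X l) : R.s i μ = μ - μ i • R.a i := rfl

theorem s_eq_sf (i : Fin l) (μ : X l) : R.s i μ = R.sf i μ := rfl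

theorem s_s (i : Fin l) (μ : X l) : R.s i (R.s i μ) = μ := R.sf_sf i μ

theorem s_mul_s (i : Fin l) : R.s i * R.s i = 1 := by
  refine LinearEquiv.ext fun μ => ?_
  rw [LinearEquiv.mul_apply, s_s]; rfl

theorem s_inv (i : Fin l) : (R.s i)⁻¹ = R.s i := inv_eq_of_mul_eq_one_right (R.s_mul_s i)

theorem s_a (i : Fin l) : R.s i (R.a i) = -R.a i := by
  rw [s_apply, R.a_self, two_smul]; abel

theorem s_neg_a (i : Fin l) : R.s i (-R.a i) = R.a i := by
  rw [map_neg, s_a, neg_neg]

/-- the Weyl group -/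
def W : Subgroup (A l) := Subgroup.closure (Set.range R.s)

theorem s_mem (i : Fin l) : R.s i ∈ R.W := Subgroup.subset_closure ⟨i, rfl⟩

/-- product of a word -/
def sw (L : List (Fin l)) : A l := (L.map R.s).prod

@[simp] theorem sw_nil : R.sw [] = 1 := rfl
@[simp] theorem sw_cons (i : Fin l) (L : List (Fin l)) : R.sw (i :: L) = R.s i * R.sw L := by
  simp [sw]
theorem sw_append (L M : List (Fin l)) : R.sw (L ++ M) = R.sw L * R.sw M := by
  simp [sw]

theorem sw_mem (L : List (Fin l)) : R.sw L ∈ R.W := by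
  induction L with
  | nil => exact one_mem _
  | cons i L ih => rw [sw_cons]; exact mul_mem (R.s_mem i) ih

theorem sw_apply (L : List (Fin l)) (μ : X l) : R.sw L μ = L.foldr R.sf μ := by
  induction L with
  | nil => rfl
  | cons i L ih => rw [sw_cons, LinearEquiv.mul_apply, ih]; rfl

theorem exists_sw {w : A l} (hw : w ∈ R.W) : ∃ L, w = R.sw L := by
  induction hw using Subgroup.closure_induction_left with
  | one => exact ⟨[], rfl⟩
  | mul_left x hx y _ ih =>
    obtain ⟨i, rfl⟩ := hx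
    obtain ⟨L, rfl⟩ := ih
    exact ⟨i :: L, (R.sw_cons i L).symm⟩
  | inv_mul_cancel x hx y _ ih =>
    obtain ⟨i, rfl⟩ := hx
    obtain ⟨L, rfl⟩ := ih
    exact ⟨i :: L, by rw [s_inv, sw_cons]⟩

theorem s_mem_Φ (i : Fin l) {r : X l} (hr : r ∈ R.Φ) : R.s i r ∈ R.Φ := R.refl_mem i r hr

theorem W_mem_Φ {w : A l} (hw : w ∈ R.W) {r : X l} (hr : r ∈ R.Φ) : w r ∈ R.Φ := by
  obtain ⟨L, rfl⟩ := R.exists_sw hw
  induction L with
  | nil => exact hr
  | cons i L ih => rw [sw_cons, LinearEquiv.mul_apply]; exact R.s_mem_Φ i (ih (R.sw_mem L))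

/-- positivity -/
def pos (r : X l) : Prop := 0 ≤ R.c r

instance (r : X l) : Decidable (R.pos r) := by unfold pos; exact decidable_of_iff (∀ i, 0 ≤ R.c r i) Iff.rfl

theorem c_inj {μ : X l} (h : R.c μ = 0) : μ = 0 := by
  rw [← R.a_c μ, h]; simp

theorem ne_zero {r : X l} (hr : r ∈ R.Φ) : r ≠ 0 := fun h => R.zero_not_mem (h ▸ hr)

theorem not_pos_iff {r : X l} (hr : r ∈ R.Φ) : ¬ R.pos r ↔ R.c r ≤ 0 := by
  constructor
  · intro h
    exact (R.pos_or_neg r hr).resolve_left h
  · intro h h'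
    exact R.ne_zero hr (R.c_inj (le_antisymm h h'))

theorem pos_neg_iff {r : X l} (hr : r ∈ R.Φ) : R.pos (-r) ↔ ¬ R.pos r := by
  rw [R.not_pos_iff hr, pos, map_neg, neg_nonneg]

theorem pos_a (i : Fin l) : R.pos (R.a i) := by
  rw [pos, R.c_a]
  intro j
  by_cases h : j = i
  · subst h; simp
  · simp [h]

theorem not_pos_neg_a (i : Fin l) : ¬ R.pos (-R.a i) := by
  rw [R.pos_neg_iff (R.a_mem i), not_not]; exact R.pos_a i

theorem pos_of_coord {r : X l} (hr : r ∈ R.Φ) {j : Fin l} (h : 0 < R.c r j) : R.pos r := by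
  by_contra h'
  have := (R.not_pos_iff hr).1 h' j
  simp only [Pi.zero_apply] at this
  omega

theorem c_s (i j : Fin l) (μ : X l) (hj : j ≠ i) : R.c (R.s i μ) j = R.c μ j := by
  rw [s_apply, map_sub, map_zsmul, R.c_a]
  simp [hj]

theorem s_pos {i : Fin l} {r : X l} (hr : r ∈ R.Φ) (hp : R.pos r) (hne : r ≠ R.a i) :
    R.pos (R.s i r) := by
  obtain ⟨j, hj, h⟩ := R.reduced i r hr hp hne
  exact R.pos_of_coord (R.s_mem_Φ i hr) (j := j) (by rw [R.c_s i j r hj]; exact h)

theorem s_ne_a {i : Fin l} {r : X l} (hp : R.pos r) : R.s i r ≠ R.a i := by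
  intro h
  have : r = -R.a i := by rw [← R.s_s i r, h, s_a]
  exact R.not_pos_neg_a i (this ▸ hp)

theorem a_inj {i j : Fin l} (h : R.a i = R.a j) : i = j := by
  by_contra hne
  have := congrFun (congrArg R.c h) i
  rw [R.c_a, R.c_a] at this
  simp [hne] at this

/-- positive roots -/
def P : Finset (X l) := R.Φ.filter R.pos

theorem mem_P {r : X l} : r ∈ R.P ↔ r ∈ R.Φ ∧ R.pos r := Finset.mem_filter

/-- inversion set -/
def Inv (w : A l) : Finset (X l) := R.P.filter fun r => ¬ R.pos (w r)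

theorem mem_Inv {w : A l} {r : X l} :
    r ∈ R.Inv w ↔ r ∈ R.Φ ∧ R.pos r ∧ ¬ R.pos (w r) := by
  rw [Inv, Finset.mem_filter, mem_P, and_assoc]

/-- length -/
def len (w : A l) : ℕ := (R.Inv w).card

/-- inversion set of `w * s i` when `w a_i > 0` -/
theorem Inv_mul_s {w : A l} (hw : w ∈ R.W) {i : Fin l} (h : R.pos (w (R.a i))) :
    R.Inv (w * R.s i) = insert (R.a i) ((R.Inv w).image (R.s i)) := by
  ext r
  simp only [Finset.mem_insert, Finset.mem_image, mem_Inv, LinearEquiv.mul_apply]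
  constructor
  · rintro ⟨h1, h2, h3⟩
    by_cases hr : r = R.a i
    · exact Or.inl hr
    · exact Or.inr ⟨R.s i r, ⟨R.s_mem_Φ i h1, R.s_pos h1 h2 hr, h3⟩, R.s_s i r⟩
  · rintro (rfl | ⟨r, ⟨h1, h2, h3⟩, rfl⟩)
    · refine ⟨R.a_mem i, R.pos_a i, ?_⟩
      rw [s_a, map_neg, R.pos_neg_iff (R.W_mem_Φ hw (R.a_mem i)), not_not]; exact h
    · refine ⟨R.s_mem_Φ i h1, R.s_pos h1 h2 ?_, by rwa [s_s]⟩
      rintro rfl
      exact h3 h

theorem a_not_mem_image (w : A l) (i : Fin l) :
    R.a i ∉ (R.Inv w).image (R.s i) := by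
  simp only [Finset.mem_image, not_exists, not_and]
  intro r hr
  exact R.s_ne_a (R.mem_Inv.1 hr).2.1

theorem len_mul_s_of_pos {w : A l} (hw : w ∈ R.W) {i : Fin l}
    (h : R.pos (w (R.a i))) : R.len (w * R.s i) = R.len w + 1 := by
  rw [len, R.Inv_mul_s hw h, Finset.card_insert_of_notMem (R.a_not_mem_image w i),
    Finset.card_image_of_injective _ (R.s i).injective]
  rfl

theorem pos_mul_s {w : A l} (hw : w ∈ R.W) {i : Fin l} (h : ¬ R.pos (w (R.a i))) :
    R.pos ((w * R.s i) (R.a i)) := by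
  rw [LinearEquiv.mul_apply, s_a, map_neg, R.pos_neg_iff (R.W_mem_Φ hw (R.a_mem i))]; exact h

theorem len_mul_s_of_neg {w : A l} (hw : w ∈ R.W) {i : Fin l}
    (h : ¬ R.pos (w (R.a i))) : R.len w = R.len (w * R.s i) + 1 := by
  rw [← R.len_mul_s_of_pos (mul_mem hw (R.s_mem i)) (R.pos_mul_s hw h), mul_assoc, s_mul_s,
    mul_one]

theorem len_le_mul_s {w : A l} (hw : w ∈ R.W) (i : Fin l) :
    R.len w ≤ R.len (w * R.s i) + 1 := by
  by_cases h : R.pos (w (R.a i))
  · rw [R.len_mul_s_of_pos hw h]; omega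
  · rw [R.len_mul_s_of_neg hw h]

/-- the invariant form -/
def B (μ ν : X l) : ℤ := ∑ i, R.d i * μ i * R.c ν i

theorem B_add_left (μ μ' ν : X l) : R.B (μ + μ') ν = R.B μ ν + R.B μ' ν := by
  simp only [B, Pi.add_apply, ← Finset.sum_add_distrib]
  exact Finset.sum_congr rfl fun i _ => by ring

theorem B_add_right (μ ν ν' : X l) : R.B μ (ν + ν') = R.B μ ν + R.B μ ν' := by
  simp only [B, map_add, Pi.add_apply, ← Finset.sum_add_distrib]
  exact Finset.sum_congr rfl fun i _ => by ring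

theorem B_smul_left (k : ℤ) (μ ν : X l) : R.B (k • μ) ν = k * R.B μ ν := by
  simp only [B, Pi.smul_apply, smul_eq_mul, Finset.mul_sum]
  exact Finset.sum_congr rfl fun i _ => by ring

theorem B_smul_right (k : ℤ) (μ ν : X l) : R.B μ (k • ν) = k * R.B μ ν := by
  simp only [B, map_zsmul, Pi.smul_apply, smul_eq_mul, Finset.mul_sum]
  exact Finset.sum_congr rfl fun i _ => by ring

theorem B_neg_right (μ ν : X l) : R.B μ (-ν) = - R.B μ ν := by
  rw [← neg_one_smul ℤ ν, B_smul_right]; ring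

theorem B_neg_left (μ ν : X l) : R.B (-μ) ν = - R.B μ ν := by
  rw [← neg_one_smul ℤ μ, B_smul_left]; ring

theorem B_sub_left (μ μ' ν : X l) : R.B (μ - μ') ν = R.B μ ν - R.B μ' ν := by
  rw [sub_eq_add_neg, B_add_left, B_neg_left]; ring

theorem B_sub_right (μ ν ν' : X l) : R.B μ (ν - ν') = R.B μ ν - R.B μ ν' := by
  rw [sub_eq_add_neg, B_add_right, B_neg_right]; ring

theorem B_a (μ : X l) (i : Fin l) : R.B μ (R.a i) = R.d i * μ i := by
  rw [B, R.c_a, Finset.sum_eq_single i]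
  · simp
  · intro j _ hj; simp [hj]
  · simp

theorem B_symm (μ ν : X l) : R.B μ ν = R.B ν μ := by
  have key : ∀ μ ν : X l, R.B μ ν = ∑ i, ∑ j, R.c μ j * R.c ν i * (R.d i * R.a j i) := by
    intro μ ν
    conv_lhs => rw [B, ← R.a_c μ]
    refine Finset.sum_congr rfl fun i _ => ?_
    simp only [Finset.sum_apply, Pi.smul_apply, smul_eq_mul, Finset.mul_sum, Finset.sum_mul]
    exact Finset.sum_congr rfl fun j _ => by ring
  rw [key, key, Finset.sum_comm]
  refine Finset.sum_congr rfl fun i _ => Finset.sum_congr rfl fun j _ => ?_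
  rw [R.symm i j]; ring

theorem B_s (i : Fin l) (μ ν : X l) : R.B (R.s i μ) (R.s i ν) = R.B μ ν := by
  simp only [s_apply, B_sub_left, B_sub_right, B_smul_left, B_smul_right]
  rw [R.B_symm (R.a i) ν, B_a, B_a, B_a, R.a_self]; ring

theorem B_W {w : A l} (hw : w ∈ R.W) (μ ν : X l) : R.B (w μ) (w ν) = R.B μ ν := by
  obtain ⟨L, rfl⟩ := R.exists_sw hw
  induction L with
  | nil => rfl
  | cons i L ih => rw [sw_cons, LinearEquiv.mul_apply, LinearEquiv.mul_apply, B_s, ih (R.sw_mem L)]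

theorem B_W' {w : A l} (hw : w ∈ R.W) (μ ν : X l) : R.B μ (w ν) = R.B (w⁻¹ μ) ν := by
  rw [← R.B_W hw (w⁻¹ μ) ν, ← LinearEquiv.mul_apply, mul_inv_cancel]; rfl

/-- conjugating a simple reflection -/
theorem conj_s {w : A l} (hw : w ∈ R.W) {i j : Fin l} (h : w (R.a i) = R.a j) :
    w * R.s i = R.s j * w := by
  have hd : R.d i = R.d j := by
    have := R.B_W hw (R.a i) (R.a i)
    rw [h, B_a, B_a, R.a_self, R.a_self] at this
    omega
  refine LinearEquiv.ext fun μ => ?_
  rw [LinearEquiv.mul_apply, LinearEquiv.mul_apply, s_apply, s_apply, map_sub, map_zsmul, h]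
  have := R.B_W hw μ (R.a i)
  rw [h, B_a, B_a, hd] at this
  rw [mul_left_cancel₀ (R.d_pos j).ne' this]

theorem exchange (L : List (Fin l)) (i : Fin l) (h : ¬ R.pos (R.sw L (R.a i))) :
    ∃ M : List (Fin l), M.length + 1 = L.length ∧ R.sw L * R.s i = R.sw M := by
  induction L with
  | nil => exact absurd (R.pos_a i) h
  | cons j L ih =>
    by_cases h' : R.pos (R.sw L (R.a i))
    · rw [sw_cons, LinearEquiv.mul_apply] at h
      have he : R.sw L (R.a i) = R.a j := by
        by_contra hne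
        exact h (R.s_pos (R.W_mem_Φ (R.sw_mem L) (R.a_mem i)) h' hne)
      refine ⟨L, rfl, ?_⟩
      rw [sw_cons, mul_assoc, R.conj_s (R.sw_mem L) he, ← mul_assoc, s_mul_s, one_mul]
    · obtain ⟨M, h1, h2⟩ := ih h'
      exact ⟨j :: M, by simp [h1], by rw [sw_cons, sw_cons, mul_assoc, h2]⟩

theorem eq_one_of_pos {w : A l} (hw : w ∈ R.W) (h : ∀ i, R.pos (w (R.a i))) :
    w = 1 := by
  obtain ⟨L, rfl⟩ := R.exists_sw hw
  have : ∀ k, ∀ L : List (Fin l), L.length = k → (∀ i, R.pos (R.sw L (R.a i))) → R.sw L = 1 := by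
    intro k
    induction k using Nat.strong_induction_on with
    | _ k ih =>
      intro L hL h
      rcases List.eq_nil_or_concat L with rfl | ⟨M, i, rfl⟩
      · rfl
      · rw [List.concat_eq_append] at h hL ⊢
        have e : R.sw (M ++ [i]) = R.sw M * R.s i := by simp [sw_append]
        have h1 : ¬ R.pos (R.sw M (R.a i)) := by
          have := h i
          rwa [e, LinearEquiv.mul_apply, s_a, map_neg,
            R.pos_neg_iff (R.W_mem_Φ (R.sw_mem M) (R.a_mem i))] at this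
        obtain ⟨M', h2, h3⟩ := R.exchange M i h1
        rw [e, h3] at h ⊢
        simp only [List.length_append, List.length_singleton] at hL
        exact ih M'.length (by omega) M' rfl h
  exact this _ L rfl h

theorem eq_one_of_len {w : A l} (hw : w ∈ R.W) (h : R.len w = 0) : w = 1 := by
  refine R.eq_one_of_pos hw fun i => ?_
  by_contra hn
  have : R.a i ∈ R.Inv w := R.mem_Inv.2 ⟨R.a_mem i, R.pos_a i, hn⟩
  rw [Finset.card_eq_zero.1 h] at this
  simp at this

theorem len_one : R.len 1 = 0 := by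
  rw [len, Finset.card_eq_zero]
  ext r
  simp [mem_Inv]

/-- induction on length -/
theorem W_induction {p : A l → Prop} (h1 : p 1)
    (hs : ∀ w ∈ R.W, ∀ i, R.pos (w (R.a i)) → p w → p (w * R.s i))
    {w : A l} (hw : w ∈ R.W) : p w := by
  have : ∀ k, ∀ w ∈ R.W, R.len w = k → p w := by
    intro k
    induction k with
    | zero => intro w hw h; rw [R.eq_one_of_len hw h]; exact h1
    | succ k ih =>
      intro w hw h
      by_cases hall : ∀ i, R.pos (w (R.a i))
      · rw [R.eq_one_of_pos hw hall]; exact h1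
      · push Not at hall
        obtain ⟨i, hi⟩ := hall
        have h2 := R.len_mul_s_of_neg hw hi
        have hm := mul_mem hw (R.s_mem i)
        have := hs _ hm i (R.pos_mul_s hw hi) (ih _ hm (by omega))
        rwa [mul_assoc, s_mul_s, mul_one] at this
  exact this _ w hw rfl

end RS

end Cfsg.Agent.ChevB
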