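import Cfsg.Agent.Lib.ChevB.W1

/-! Weyl group: roots are conjugate to simple roots, longest element, finiteness, reflections,
characters. -/

set_option autoImplicit false

namespace Cfsg.Agent.ChevB

namespace RS

variable {l : ℕ} (R : RS l)

theorem inv_apply_apply (w : A l) (μ : X l) : w⁻¹ (w μ) = μ := by
  rw [← LinearEquiv.mul_apply, inv_mul_cancel]; rfl

theorem apply_inv_apply (w : A l) (μ : X l) : w (w⁻¹ μ) = μ := by
  rw [← LinearEquiv.mul_apply, mul_inv_cancel]; rfl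

theorem one_apply (μ : X l) : (1 : A l) μ = μ := rfl

/-- height -/
def ht (μ : X l) : ℤ := ∑ i, R.c μ i

theorem ht_s (i : Fin l) (μ : X l) : R.ht (R.s i μ) = R.ht μ - μ i := by
  simp only [ht, s_apply, map_sub, map_zsmul, R.c_a, Pi.sub_apply, Pi.smul_apply, smul_eq_mul,
    Finset.sum_sub_distrib]
  congr 1
  rw [Finset.sum_eq_single i]
  · simp
  · intro j _ hj; simp [hj]
  · simp

theorem exists_simple_pos {r : X l} (hr : r ∈ R.Φ) (hp : R.pos r) :
    ∃ w ∈ R.W, ∃ i, r = w (R.a i) := by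
  have : ∀ k : ℕ, ∀ r ∈ R.Φ, R.pos r → R.ht r ≤ k → ∃ w ∈ R.W, ∃ i, r = w (R.a i) := by
    intro k
    induction k with
    | zero =>
      intro r hr hp h
      exfalso
      refine R.ne_zero hr (R.c_inj (funext fun i => ?_))
      have h0 : ∑ i, R.c r i = 0 :=
        le_antisymm h (Finset.sum_nonneg fun i _ => hp i)
      exact (Finset.sum_eq_zero_iff_of_nonneg fun i _ => hp i).1 h0 i (Finset.mem_univ i)
    | succ k ih =>
      intro r hr hp h
      obtain ⟨i, hi⟩ := R.exists_pos r hr hp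
      by_cases he : r = R.a i
      · exact ⟨1, one_mem _, i, he⟩
      · obtain ⟨w, hw, j, hj⟩ := ih (R.s i r) (R.s_mem_Φ i hr) (R.s_pos hr hp he)
          (by rw [ht_s]; push_cast at h; omega)
        exact ⟨R.s i * w, mul_mem (R.s_mem i) hw, j, by
          rw [LinearEquiv.mul_apply, ← hj, s_s]⟩
  exact this (R.ht r).toNat r hr hp (Int.self_le_toNat _)

theorem exists_simple {r : X l} (hr : r ∈ R.Φ) : ∃ w ∈ R.W, ∃ i, r = w (R.a i) := by
  by_cases hp : R.pos r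
  · exact R.exists_simple_pos hr hp
  · obtain ⟨w, hw, i, h⟩ := R.exists_simple_pos (R.neg_mem r hr) ((R.pos_neg_iff hr).2 hp)
    exact ⟨w * R.s i, mul_mem hw (R.s_mem i), i, by
      rw [LinearEquiv.mul_apply, s_a, map_neg, ← h, neg_neg]⟩

theorem apply_eq_sum (w : A l) (μ : X l) : w μ = ∑ i, R.c μ i • w (R.a i) := by
  conv_lhs => rw [← R.a_c μ]
  simp only [map_sum, map_zsmul]

theorem ext_a {w w' : A l} (h : ∀ i, w (R.a i) = w' (R.a i)) : w = w' := by
  refine LinearEquiv.ext fun μ => ?_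
  rw [R.apply_eq_sum w, R.apply_eq_sum w']
  simp only [h]

theorem exists_longest : ∃ w ∈ R.W, R.Inv w = R.P := by
  have hb : ∀ w, R.len w ≤ R.P.card := fun w => Finset.card_filter_le _ _
  have : ∃ w ∈ R.W, ∀ w' ∈ R.W, R.len w' ≤ R.len w := by
    by_contra hc
    push Not at hc
    have : ∀ k, ∃ w ∈ R.W, k ≤ R.len w := by
      intro k
      induction k with
      | zero => exact ⟨1, one_mem _, Nat.zero_le _⟩
      | succ k ih =>
        obtain ⟨w, hw, h⟩ := ih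
        obtain ⟨w', hw', h'⟩ := hc w hw
        exact ⟨w', hw', by omega⟩
    obtain ⟨w, -, h⟩ := this (R.P.card + 1)
    have := hb w
    omega
  obtain ⟨w, hw, hmax⟩ := this
  refine ⟨w, hw, ?_⟩
  have hneg : ∀ i, R.c (w (R.a i)) ≤ 0 := by
    intro i
    rw [← R.not_pos_iff (R.W_mem_Φ hw (R.a_mem i))]
    intro h
    have := hmax _ (mul_mem hw (R.s_mem i))
    rw [R.len_mul_s_of_pos hw h] at this
    omega
  rw [Inv, Finset.filter_eq_self]
  intro r hr
  obtain ⟨h1, h2⟩ := R.mem_P.1 hr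
  rw [R.not_pos_iff (R.W_mem_Φ hw h1), R.apply_eq_sum w, map_sum]
  refine Finset.sum_nonpos fun i _ => ?_
  rw [map_zsmul]
  exact smul_nonpos_of_nonneg_of_nonpos (h2 i) (hneg i)

instance : Finite R.W := by
  let f : R.W → (Fin l → R.Φ) := fun w i => ⟨w.1 (R.a i), R.W_mem_Φ w.2 (R.a_mem i)⟩
  refine Finite.of_injective f fun w w' h => Subtype.ext (R.ext_a fun i => ?_)
  exact congrArg Subtype.val (congrFun h i)

theorem B_self_pos {r : X l} (hr : r ∈ R.Φ) : 0 < R.B r r := by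
  obtain ⟨w, hw, i, rfl⟩ := R.exists_simple hr
  rw [R.B_W hw, B_a, R.a_self]
  have := R.d_pos i
  omega

/-- `g` is the reflection in `r` -/
def IsRefl (r : X l) (g : A l) : Prop :=
  ∀ μ, ∃ k : ℤ, k * R.B r r = 2 * R.B μ r ∧ g μ = μ - k • r

theorem exists_refl {r : X l} (hr : r ∈ R.Φ) : ∃ g ∈ R.W, R.IsRefl r g := by
  obtain ⟨w, hw, i, rfl⟩ := R.exists_simple hr
  refine ⟨w * R.s i * w⁻¹, mul_mem (mul_mem hw (R.s_mem i)) (inv_mem hw), fun μ => ?_⟩
  refine ⟨w⁻¹ μ i, ?_, ?_⟩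
  · rw [R.B_W hw, R.B_W' hw, B_a, B_a, R.a_self]; ring
  · rw [LinearEquiv.mul_apply, LinearEquiv.mul_apply, s_apply, map_sub, map_zsmul,
      apply_inv_apply]

/-- the vector with all weight coordinates `1` -/
def ρ (l : ℕ) : X l := fun _ => 1

theorem B_ρ_pos {r : X l} (hr : r ∈ R.Φ) : 0 < R.B (ρ l) r ↔ R.pos r := by
  have key : ∀ r ∈ R.Φ, R.pos r → 0 < R.B (ρ l) r := by
    intro r hr hp
    have : ∃ i, R.c r i ≠ 0 := by
      by_contra h
      push Not at h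
      exact R.ne_zero hr (R.c_inj (funext h))
    obtain ⟨i, hi⟩ := this
    refine Finset.sum_pos' (fun j _ => ?_) ⟨i, Finset.mem_univ i, ?_⟩
    · exact mul_nonneg (by simpa [ρ] using (R.d_pos j).le) (hp j)
    · exact mul_pos (by simpa [ρ] using R.d_pos i) (lt_of_le_of_ne (hp i) hi.symm)
  refine ⟨fun h => ?_, key r hr⟩
  by_contra hp
  have := key _ (R.neg_mem r hr) ((R.pos_neg_iff hr).2 hp)
  rw [B_neg_right] at this
  omega

theorem B_ρ_neg {r : X l} (hr : r ∈ R.Φ) : R.B (ρ l) r < 0 ↔ ¬ R.pos r := by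
  rw [← R.pos_neg_iff hr, ← R.B_ρ_pos (R.neg_mem r hr), B_neg_right]; omega

theorem B_ρ_ne {r : X l} (hr : r ∈ R.Φ) : R.B (ρ l) r ≠ 0 := by
  by_cases h : R.pos r
  · exact ((R.B_ρ_pos hr).2 h).ne'
  · exact ((R.B_ρ_neg hr).2 h).ne

end RS

section ev

variable {l : ℕ} {F : Type*} [Field F]

theorem ev_add (χ : Fin l → Fˣ) (μ ν : X l) : ev χ (μ + ν) = ev χ μ * ev χ ν := by
  simp only [ev, Pi.add_apply, zpow_add, Finset.prod_mul_distrib]

theorem ev_zero (χ : Fin l → Fˣ) : ev χ (0 : X l) = 1 := by simp [ev]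

theorem ev_smul (χ : Fin l → Fˣ) (k : ℤ) (μ : X l) : ev χ (k • μ) = ev χ μ ^ k := by
  simp only [ev, Pi.smul_apply, smul_eq_mul, ← Finset.prod_zpow, ← zpow_mul, mul_comm]

theorem ev_neg (χ : Fin l → Fˣ) (μ : X l) : ev χ (-μ) = (ev χ μ)⁻¹ := by
  rw [← neg_one_smul ℤ μ, ev_smul]; simp

theorem ev_sub (χ : Fin l → Fˣ) (μ ν : X l) : ev χ (μ - ν) = ev χ μ * (ev χ ν)⁻¹ := by
  rw [sub_eq_add_neg, ev_add, ev_neg]

theorem ev_sum {ι : Type*} (χ : Fin l → Fˣ) (s : Finset ι) (f : ι → X l) :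
    ev χ (∑ i ∈ s, f i) = ∏ i ∈ s, ev χ (f i) := by
  classical
  induction s using Finset.induction_on with
  | empty => simp [ev_zero]
  | insert i s hi ih => rw [Finset.sum_insert hi, Finset.prod_insert hi, ev_add, ih]

theorem ev_single (χ : Fin l → Fˣ) (j : Fin l) : ev χ (Pi.single j 1) = χ j := by
  rw [ev, Finset.prod_eq_single j]
  · simp
  · intro i _ hi; simp [hi]
  · simp

theorem ev_mul (χ ψ : Fin l → Fˣ) (μ : X l) : ev (χ * ψ) μ = ev χ μ * ev ψ μ := by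
  simp only [ev, Pi.mul_apply, mul_zpow, Finset.prod_mul_distrib]

theorem ev_one (μ : X l) : ev (1 : Fin l → Fˣ) μ = 1 := by simp [ev]

theorem ev_inv (χ : Fin l → Fˣ) (μ : X l) : ev χ⁻¹ μ = (ev χ μ)⁻¹ := by
  rw [eq_inv_iff_mul_eq_one, ← ev_mul, inv_mul_cancel, ev_one]

theorem ev_mulSingle (i : Fin l) (t : Fˣ) (μ : X l) :
    ev (Pi.mulSingle i t : Fin l → Fˣ) μ = t ^ μ i := by
  rw [ev, Finset.prod_eq_single i]
  · simp
  · intro j _ hj; simp [hj]
  · simp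

theorem ev_ext {χ ψ : Fin l → Fˣ} (h : ∀ μ, ev χ μ = ev ψ μ) : χ = ψ := by
  funext j
  rw [← ev_single χ, ← ev_single ψ, h]

/-- the character `χ ∘ w` -/
def act (w : A l) (χ : Fin l → Fˣ) : Fin l → Fˣ := fun j => ev χ (w (Pi.single j 1))

theorem ev_act (w : A l) (χ : Fin l → Fˣ) (μ : X l) : ev (act w χ) μ = ev χ (w μ) := by
  have : μ = ∑ j, μ j • (Pi.single j 1 : X l) := by
    ext i
    simp [Finset.sum_apply, Pi.single_apply]
  conv_rhs => rw [this, map_sum, ev_sum]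
  simp only [map_zsmul, ev_smul]
  rfl

theorem act_mul (w w' : A l) (χ : Fin l → Fˣ) : act (w * w') χ = act w' (act w χ) :=
  ev_ext fun μ => by rw [ev_act, ev_act, ev_act, LinearEquiv.mul_apply]

theorem act_one (χ : Fin l → Fˣ) : act 1 χ = χ := ev_ext fun μ => by rw [ev_act]; rfl

theorem act_chi_mul (w : A l) (χ ψ : Fin l → Fˣ) : act w (χ * ψ) = act w χ * act w ψ :=
  ev_ext fun μ => by rw [ev_act, ev_mul, ev_mul, ev_act, ev_act]

theorem act_chi_one (w : A l) : act w (1 : Fin l → Fˣ) = 1 :=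
  ev_ext fun μ => by rw [ev_act, ev_one, ev_one]

theorem RS.ev_ext_a (R : RS l) {χ ψ : Fin l → Fˣ} (h : ∀ i, ev χ (R.a i) = ev ψ (R.a i)) :
    χ = ψ := by
  refine ev_ext fun μ => ?_
  rw [← R.a_c μ, ev_sum, ev_sum]
  simp only [ev_smul, h]

theorem RS.act_s_single (R : RS l) (i : Fin l) (t : Fˣ) :
    act (R.s i) (Pi.mulSingle i t : Fin l → Fˣ) = Pi.mulSingle i t⁻¹ :=
  ev_ext fun μ => by
    rw [ev_act, ev_mulSingle, ev_mulSingle, RS.s_apply]
    simp only [Pi.sub_apply, Pi.smul_apply, smul_eq_mul, R.a_self, inv_zpow']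
    congr 1; ring

theorem RS.act_s_single' (R : RS l) {i j : Fin l} (h : R.a i j = 0) (t : Fˣ) :
    act (R.s i) (Pi.mulSingle j t : Fin l → Fˣ) = Pi.mulSingle j t :=
  ev_ext fun μ => by
    rw [ev_act, ev_mulSingle, ev_mulSingle, RS.s_apply]
    simp [h]

end ev

end Cfsg.Agent.ChevB
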