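import Cfsg.Agent.Lib.ChevB.W3

/-! A list-level checker computing Poincaré sums through stabiliser chains. -/

set_option autoImplicit false

namespace Cfsg.Agent.ChevB

/-- encoded vector: weight coordinates and scaled root coordinates -/
abbrev E : Type := List ℤ × List ℤ

/-- dot product of lists -/
def dot : List ℤ → List ℤ → ℤ
  | a :: s, b :: t => a * b + dot s t
  | _, _ => 0

theorem dot_ofFn {l : ℕ} (f g : Fin l → ℤ) :
    dot (List.ofFn f) (List.ofFn g) = ∑ i, f i * g i := by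
  induction l with
  | zero => simp [dot]
  | succ l ih => rw [List.ofFn_succ, List.ofFn_succ, dot, ih, Fin.sum_univ_succ]

/-- inner product of encoded vectors -/
def ip (e f : E) : ℤ := dot e.1 f.2

/-- candidates for the orbit -/
def candL (EL : List E) (in0 : E → Bool) (βs : List E) (lam : E) : List E :=
  EL.filter fun μ => (in0 μ == in0 lam) && (ip μ μ == ip lam lam) &&
    βs.all fun β => ip μ β == ip lam β

/-- exponents at each stage -/
def stagesL (EL : List E) (in0 : E → Bool) : List E → List E → List E → List (List ℕ)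
  | _, _, [] => []
  | Ψp, βs, lam :: ls =>
    ((candL EL in0 βs lam).map fun μ => Ψp.countP fun r => decide (ip μ r < 0)) ::
      stagesL EL in0 (Ψp.filter fun r => ip lam r == 0) (lam :: βs) ls

namespace RS

variable {l : ℕ} (R : RS l)

/-- encoding -/
def enc (μ : X l) : E := (List.ofFn μ, List.ofFn fun i => R.d i * R.c μ i)

theorem ip_enc (μ ν : X l) : ip (R.enc μ) (R.enc ν) = R.B μ ν := by
  rw [ip, enc, enc, dot_ofFn, B]
  exact Finset.sum_congr rfl fun i _ => by ring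

theorem nn_eq {Ψ : Finset (X l)} (hΨ : ∀ r ∈ Ψ, r ∈ R.Φ) {Ψp : List (X l)} (hnd : Ψp.Nodup)
    (hp : ∀ r, r ∈ Ψp ↔ r ∈ Ψ ∧ R.pos r) (μ : X l) :
    R.nn Ψ μ = (Ψp.map R.enc).countP fun r => decide (ip (R.enc μ) r < 0) := by
  rw [List.countP_map, List.countP_eq_length_filter, ← List.toFinset_card_of_nodup (hnd.filter _),
    nn]
  congr 1
  ext r
  simp only [Finset.mem_filter, List.mem_toFinset, List.mem_filter, Function.comp_apply, ip_enc,
    decide_eq_true_eq, hp]
  constructor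
  · rintro ⟨h1, h2, h3⟩
    exact ⟨⟨h1, (R.B_ρ_pos (hΨ r h1)).1 h2⟩, h3⟩
  · rintro ⟨⟨h1, h2⟩, h3⟩
    exact ⟨h1, (R.B_ρ_pos (hΨ r h1)).2 h2, h3⟩

theorem nn_eq_zero {Ψ : Finset (X l)} {μ : X l}
    (h : ∀ r ∈ Ψ, 0 < R.B (ρ l) r → 0 ≤ R.B μ r) : R.nn Ψ μ = 0 := by
  rw [nn, Finset.card_eq_zero, Finset.filter_eq_empty_iff]
  intro r hr h'
  have := h r hr h'.1
  omega

theorem PS_eq (q : ℕ) (Φl : List (X l)) (hΦ : ∀ r, r ∈ R.Φ ↔ r ∈ Φl) (hnd : Φl.Nodup)
    (in0 : E → Bool) (ls : List (X l)) :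
    ∀ (V : Subgroup (A l)) (Ψ : Finset (X l)) (βs Ψp : List (X l)), R.Adm V Ψ → Ψp.Nodup →
      (∀ r, r ∈ Ψp ↔ r ∈ Ψ ∧ R.pos r) →
      (∀ w ∈ V, ∀ r ∈ R.Φ, in0 (R.enc (w r)) = in0 (R.enc r)) →
      (∀ β ∈ βs, ∀ w ∈ V, w β = β) → (∀ lam ∈ ls, lam ∈ R.Φ) →
      (∀ i, R.a i ∈ βs ∨ R.a i ∈ ls) →
      (∀ e ∈ stagesL (Φl.map R.enc) in0 (Ψp.map R.enc) (βs.map R.enc) (ls.map R.enc),
        e.count 0 = 1) →
      R.PS q V Ψ (ρ l) (ρ l) =
        ((stagesL (Φl.map R.enc) in0 (Ψp.map R.enc) (βs.map R.enc) (ls.map R.enc)).map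
          fun e => (e.map (q ^ ·)).sum).prod := by
  classical
  induction ls with
  | nil =>
    intro V Ψ βs Ψp h _ _ _ hβ _ ha _
    rw [h.PS_triv q fun w hw i => hβ _ ((ha i).resolve_right (by simp)) w hw]
    simp [stagesL]
  | cons lam ls ih =>
    intro V Ψ βs Ψp h hnd' hp hin hβ hls ha hc
    simp only [List.map_cons, stagesL, List.mem_cons, forall_eq_or_imp, List.prod_cons] at hc ⊢
    have hlam : lam ∈ R.Φ := hls lam List.mem_cons_self
    let p : E → Bool := fun μ => (in0 μ == in0 (R.enc lam)) &&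
      (ip μ μ == ip (R.enc lam) (R.enc lam)) &&
      (βs.map R.enc).all fun β => ip μ β == ip (R.enc lam) β
    let O : List (X l) := Φl.filter (p ∘ R.enc)
    have hO : candL (Φl.map R.enc) in0 (βs.map R.enc) (R.enc lam) = O.map R.enc := by
      rw [candL, List.filter_map]
    have hmem : ∀ μ, μ ∈ O ↔ μ ∈ R.Φ ∧ in0 (R.enc μ) = in0 (R.enc lam) ∧
        R.B μ μ = R.B lam lam ∧ ∀ β ∈ βs, R.B μ β = R.B lam β := by
      intro μ
      simp only [O, p, List.mem_filter, hΦ, Function.comp_apply, Bool.and_eq_true, beq_iff_eq,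
        ip_enc, List.all_map, List.all_eq_true, and_assoc]
    have hst : ∀ w ∈ V, ∀ μ ∈ O, w μ ∈ O := by
      intro w hw μ hμ
      rw [hmem] at hμ ⊢
      refine ⟨R.W_mem_Φ (h.le hw) hμ.1, by rw [hin w hw μ hμ.1, hμ.2.1],
        by rw [R.B_W (h.le hw), hμ.2.2.1], fun β hb => ?_⟩
      rw [← hμ.2.2.2 β hb, ← R.B_W (h.le hw) μ β, hβ β hb w hw]
    have hlO : lam ∈ O := (hmem lam).2 ⟨hlam, rfl, rfl, fun _ _ => rfl⟩
    have hOnd : O.Nodup := hnd.filter _
    have hex : ((O.map R.enc).map fun μ => (Ψp.map R.enc).countP fun r => decide (ip μ r < 0))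
        = O.map (R.nn Ψ) := by
      rw [List.map_map]
      exact List.map_congr_left fun μ _ => (R.nn_eq h.sub hnd' hp μ).symm
    rw [hO, hex] at hc ⊢
    have huniq : ∀ μ ∈ O, ∀ ν ∈ O, R.nn Ψ μ = 0 → R.nn Ψ ν = 0 → μ = ν := by
      intro μ hμ ν hν h1 h2
      have h3 := hc.1
      rw [List.count_eq_countP, List.countP_map, List.countP_eq_length_filter,
        List.length_eq_one_iff] at h3
      obtain ⟨z, hz⟩ := h3
      have e1 : μ ∈ [z] := by rw [← hz, List.mem_filter]; exact ⟨hμ, by simp [h1]⟩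
      have e2 : ν ∈ [z] := by rw [← hz, List.mem_filter]; exact ⟨hν, by simp [h2]⟩
      rw [List.mem_singleton] at e1 e2
      rw [e1, e2]
    have horb : ∀ μ, μ ∈ O.toFinset ↔ ∃ w ∈ V, w lam = μ := by
      intro μ
      rw [List.mem_toFinset]
      constructor
      · intro hμ
        obtain ⟨y, hy, H⟩ := h.dom (ρ l) μ
        obtain ⟨y', hy', H'⟩ := h.dom (ρ l) lam
        have := huniq _ (hst y hy μ hμ) _ (hst y' hy' lam hlO) (R.nn_eq_zero H) (R.nn_eq_zero H')
        exact ⟨y⁻¹ * y', mul_mem (inv_mem hy) hy', by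
          rw [LinearEquiv.mul_apply, ← this, inv_apply_apply]⟩
      · rintro ⟨w, hw, rfl⟩
        exact hst w hw lam hlO
    rw [h.chain q lam O.toFinset horb, List.sum_toFinset _ hOnd, List.map_map]
    congr 1
    have e : (List.filter (fun r => ip (R.enc lam) r == 0) (Ψp.map R.enc))
        = (Ψp.filter fun r => R.B lam r == 0).map R.enc := by
      rw [List.filter_map]
      congr 1
      exact List.filter_congr fun r _ => by simp [ip_enc]
    rw [e] at hc ⊢
    refine ih (V ⊓ fix lam) _ (lam :: βs) _ (h.step lam) (hnd'.filter _) ?_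
      (fun w hw => hin w hw.1) ?_ (fun μ hμ => hls μ (List.mem_cons_of_mem _ hμ)) ?_ hc.2
    · intro r
      simp only [List.mem_filter, hp, beq_iff_eq, Finset.mem_filter]
      tauto
    · intro β hb w hw
      rcases List.mem_cons.1 hb with rfl | hb
      · exact hw.2
      · exact hβ β hb w hw.1
    · intro i
      rcases ha i with h1 | h1
      · exact Or.inl (List.mem_cons_of_mem _ h1)
      · rcases List.mem_cons.1 h1 with h1 | h1
        · exact Or.inl (h1 ▸ List.mem_cons_self)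
        · exact Or.inr h1

end RS

end Cfsg.Agent.ChevB
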